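import Mathlib
import Cfsg.Agent.Lib.SuzType.Axes

/-!
Finite facts about the even permutations of five points and their action on the residue space, used to
build generators of a group of Suzuki type.
-/

set_option autoImplicit false
set_option maxHeartbeats 1000000
set_option maxRecDepth 8000
set_option synthInstance.maxSize 8000
set_option synthInstance.maxHeartbeats 1000000
set_option linter.style.longLine false

namespace CfsgLib.SuzType.Uniq

open Equiv Equiv.Perm

/-- A decomposition of a vector into singular points. -/
def dec (w : W) : List (Fin 5) :=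
  if w = 0 then [] else
    match (List.finRange 5).find? (fun i => decide (pt i = w)) with
    | some i => [i]
    | none =>
      match ((List.finRange 5).flatMap fun i => (List.finRange 5).map fun j => (i, j)).find?
          (fun q => decide (pt q.1 + pt q.2 = w)) with
      | some q => [q.1, q.2]
      | none => []

/-- The linear map of the residue space induced by a permutation of the five points. -/
def pm (π : Perm (Fin 5)) (w : W) : W := ((dec w).map fun i => pt (π i)).sum

theorem dec_sum : ∀ w : W, ((dec w).map pt).sum = w := by decide +kernel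

theorem pm_spec {f : W → W} (hf : ∀ a b, f (a + b) = f a + f b) {π : Perm (Fin 5)}
    (h : ∀ i, f (pt i) = pt (π i)) (w : W) : f w = pm π w := by
  have hf0 : f 0 = 0 := by have := hf 0 0; rw [add_zero] at this; exact left_eq_add.mp this
  have hl : ∀ l : List (Fin 5), f ((l.map pt).sum) = (l.map fun i => pt (π i)).sum := by
    intro l
    induction l with
    | nil => simpa using hf0
    | cons a l ih => simp only [List.map_cons, List.sum_cons]; rw [hf, h, ih]
  conv_lhs => rw [← dec_sum w]
  exact hl _

theorem graph_diag : ∀ u w : W, u ≠ 0 → w ≠ 0 →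
    (∀ π : Perm (Fin 5), sign π = 1 → pm π u = u → pm π w = w) → w = u := by decide +kernel

theorem singular_moved : ∀ u : W, u ≠ 0 → ∃ π : Perm (Fin 5), sign π = 1 ∧ qW 1 (u + pm π u) = 1 := by
  decide +kernel

/-! ### Automorphisms fixing an involution -/

/-- A double transposition. -/
def tau0 : Perm (Fin 5) := swap 0 1 * swap 2 3

/-- A three-cycle generating with `tau0` all even permutations. -/
def sig0 : Perm (Fin 5) := swap 0 2 * swap 2 4

/-- The value of a word in `tau0` and `sig0`. -/
def evw (l : List Bool) : Perm (Fin 5) := (l.map fun b => if b then tau0 else sig0).prod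

/-- Words for all even permutations. -/
def wds : List (List Bool) := [
  [],
  [true],
  [false],
  [true, false],
  [false, true],
  [false, false],
  [true, false, true],
  [true, false, false],
  [false, true, false],
  [false, false, true],
  [true, false, true, false],
  [true, false, false, true],
  [false, true, false, true],
  [false, true, false, false],
  [false, false, true, false],
  [true, false, true, false, true],
  [true, false, true, false, false],
  [true, false, false, true, false],
  [false, true, false, true, false],
  [false, true, false, false, true],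
  [false, false, true, false, true],
  [false, false, true, false, false],
  [true, false, true, false, true, false],
  [true, false, true, false, false, true],
  [true, false, false, true, false, true],
  [true, false, false, true, false, false],
  [false, true, false, true, false, false],
  [false, true, false, false, true, false],
  [false, false, true, false, true, false],
  [true, false, true, false, true, false, false],
  [true, false, true, false, false, true, false],
  [true, false, false, true, false, true, false],
  [false, true, false, true, false, false, true],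
  [false, true, false, false, true, false, true],
  [false, true, false, false, true, false, false],
  [false, false, true, false, true, false, false],
  [true, false, true, false, true, false, false, true],
  [true, false, true, false, false, true, false, true],
  [true, false, true, false, false, true, false, false],
  [true, false, false, true, false, true, false, false],
  [false, true, false, true, false, false, true, false],
  [false, true, false, false, true, false, true, false],
  [false, false, true, false, true, false, false, true],
  [true, false, true, false, true, false, false, true, false],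
  [true, false, true, false, false, true, false, true, false],
  [true, false, false, true, false, true, false, false, true],
  [false, true, false, true, false, false, true, false, true],
  [false, true, false, true, false, false, true, false, false],
  [false, true, false, false, true, false, true, false, false],
  [false, false, true, false, true, false, false, true, false],
  [true, false, true, false, true, false, false, true, false, true],
  [true, false, true, false, true, false, false, true, false, false],
  [true, false, true, false, false, true, false, true, false, false],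
  [true, false, false, true, false, true, false, false, true, false],
  [false, true, false, false, true, false, true, false, false, true],
  [false, false, true, false, true, false, false, true, false, true],
  [true, false, true, false, false, true, false, true, false, false, true],
  [true, false, false, true, false, true, false, false, true, false, true],
  [false, true, false, false, true, false, true, false, false, true, false],
  [true, false, true, false, false, true, false, true, false, false, true, false]]

theorem wds_cover : ∀ π : Perm (Fin 5), sign π = 1 → π ∈ wds.map evw := by decide +kernel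

theorem invol_std : ∀ τ : Perm (Fin 5), sign τ = 1 → τ * τ = 1 → τ ≠ 1 →
    ∃ p : Perm (Fin 5), p * tau0 = τ * p := by decide +kernel

theorem sig_facts : sign tau0 = 1 ∧ sign sig0 = 1 ∧ sig0 * sig0 * sig0 = 1 ∧ sig0 ≠ 1 ∧
    (tau0 * sig0) ^ 5 = 1 := by decide +kernel

theorem sig_conj : ∀ s : Perm (Fin 5), sign s = 1 → s * s * s = 1 → (tau0 * s) ^ 5 = 1 → s ≠ 1 →
    ∃ p : Perm (Fin 5), p * tau0 = tau0 * p ∧ p * sig0 = s * p := by decide +kernel

theorem sig_rigid : ∀ p : Perm (Fin 5), p * tau0 = tau0 * p → p * p * p * sig0 = sig0 * (p * p * p) →
    p = 1 := by decide +kernel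

theorem sign_conj (p π : Perm (Fin 5)) : sign (p * π * p⁻¹) = sign π := by
  rw [map_mul, map_mul, map_inv, mul_right_comm, mul_inv_cancel, one_mul]

/-- An automorphism of order three of the even permutations fixing an involution is trivial. -/
theorem alpha_trivial (α : Perm (Fin 5) → Perm (Fin 5)) (hα : ∀ a, sign a = 1 → sign (α a) = 1)
    (hm : ∀ a b, sign a = 1 → sign b = 1 → α (a * b) = α a * α b)
    (h3 : ∀ a, sign a = 1 → α (α (α a)) = a) {τ : Perm (Fin 5)} (hτ : sign τ = 1) (hτ2 : τ * τ = 1)
    (hτ1 : τ ≠ 1) (hfix : α τ = τ) : ∀ a, sign a = 1 → α a = a := by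
  obtain ⟨p0, hp0⟩ := invol_std τ hτ hτ2 hτ1
  let β : Perm (Fin 5) → Perm (Fin 5) := fun a => p0⁻¹ * α (p0 * a * p0⁻¹) * p0
  have hc : ∀ a, sign a = 1 → sign (p0 * a * p0⁻¹) = 1 := fun a ha => (sign_conj _ _).trans ha
  have hβ : ∀ a, sign a = 1 → sign (β a) = 1 := fun a ha => by
    have := hα _ (hc a ha)
    simp [β, this, mul_comm]
  have hβm : ∀ a b, sign a = 1 → sign b = 1 → β (a * b) = β a * β b := fun a b ha hb => by
    simp only [β]
    rw [show p0 * (a * b) * p0⁻¹ = (p0 * a * p0⁻¹) * (p0 * b * p0⁻¹) by group, hm _ _ (hc a ha) (hc b hb)]
    group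
  have hβ3 : ∀ a, sign a = 1 → β (β (β a)) = a := fun a ha => by
    simp only [β]
    rw [show ∀ y, p0 * (p0⁻¹ * y * p0) * p0⁻¹ = y from fun y => by group,
      show ∀ y, p0 * (p0⁻¹ * y * p0) * p0⁻¹ = y from fun y => by group, h3 _ (hc a ha)]
    group
  obtain ⟨ht0, hs0, hs3, hs1, hts⟩ := sig_facts
  have hβ1 : β 1 = 1 := by
    have := hβm 1 1 sign_one sign_one
    rw [one_mul] at this
    exact left_eq_mul.1 this
  have hβt : β tau0 = tau0 := by
    simp only [β]
    rw [show p0 * tau0 * p0⁻¹ = τ by rw [hp0, mul_inv_cancel_right], hfix,
      mul_assoc, ← hp0, inv_mul_cancel_left]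
  have hpow : ∀ a, sign a = 1 → ∀ k : ℕ, β (a ^ k) = β a ^ k := fun a ha k => by
    induction k with
    | zero => simpa using hβ1
    | succ k ih => rw [pow_succ, hβm _ _ (by simp [ha]) ha, ih, pow_succ]
  obtain ⟨p, hpt, hps⟩ := sig_conj (β sig0) (hβ _ hs0)
    (by rw [← hβm _ _ hs0 hs0, ← hβm _ _ (by simp [hs0]) hs0, hs3, hβ1])
    (by rw [show tau0 * β sig0 = β (tau0 * sig0) by rw [hβm _ _ ht0 hs0, hβt],
      ← hpow _ (by simp [ht0, hs0]), hts, hβ1])
    (fun e => hs1 (by rw [← hβ3 _ hs0, e, hβ1, hβ1]))
  have hconj : ∀ a, sign a = 1 → β a = p * a * p⁻¹ := by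
    intro a ha
    obtain ⟨l, -, rfl⟩ := List.mem_map.1 (wds_cover a ha)
    induction l with
    | nil => simp [evw, hβ1]
    | cons b l ih =>
      have hev : ∀ l : List Bool, sign (evw l) = 1 := fun l => by
        induction l with
        | nil => simp [evw]
        | cons b l ih =>
          rw [show evw (b :: l) = (if b then tau0 else sig0) * evw l from List.prod_cons, map_mul, ih]
          cases b <;> simp [ht0, hs0]
      rw [show evw (b :: l) = (if b then tau0 else sig0) * evw l from List.prod_cons,
        hβm _ _ (by cases b <;> simp [ht0, hs0]) (hev l), ih (hev l)]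
      cases b
      · rw [if_neg (by simp), show β sig0 = p * sig0 * p⁻¹ by rw [hps, mul_inv_cancel_right]]
        group
      · rw [if_pos rfl, hβt]
        conv_lhs => rw [show tau0 = p * tau0 * p⁻¹ by rw [hpt, mul_inv_cancel_right]]
        group
  have hc2 : ∀ a, sign a = 1 → β (β (β a)) = (p * p * p) * a * (p * p * p)⁻¹ := fun a ha => by
    rw [hconj _ (hβ _ (hβ _ ha)), hconj _ (hβ _ ha), hconj _ ha]
    group
  obtain rfl : p = 1 := sig_rigid p hpt (mul_inv_eq_iff_eq_mul.1 ((hc2 _ hs0).symm.trans (hβ3 _ hs0)))
  intro a ha
  have ha' : sign (p0⁻¹ * a * p0) = 1 := by simp [ha, mul_comm]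
  have := hconj _ ha'
  simp only [β, one_mul, inv_one, mul_one] at this
  rw [show p0 * (p0⁻¹ * a * p0) * p0⁻¹ = a by group] at this
  exact mul_left_cancel (mul_right_cancel this)

/-! ### The stabilizer of a point and elements moving it -/

theorem stab_split : ∀ i : Fin 5, ∀ π : Perm (Fin 5), sign π = 1 → π i = i →
    ∃ a : Perm (Fin 5), sign a = 1 ∧ a i = i ∧ a * a * a = 1 ∧ a * π * (a * π) * (a * π) = 1 := by decide +kernel

theorem stab_four : ∀ i : Fin 5, ∀ τ : Perm (Fin 5), sign τ = 1 → τ i = i → τ * τ = 1 → τ ≠ 1 →
    ∀ s : Perm (Fin 5), sign s = 1 → s i = i → s * s * s = 1 → s ≠ 1 →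
      s * (s * τ * s⁻¹) * s⁻¹ = τ * (s * τ * s⁻¹) ∧ τ * (s * τ * s⁻¹) = s * τ * s⁻¹ * τ := by
  decide +kernel

theorem stab_braid : ∀ i : Fin 5, ∀ w e : Perm (Fin 5), sign w = 1 → w i = i → w * w * w = 1 → w ≠ 1 →
    sign e = 1 → e i = i → e * e = 1 → e ≠ 1 → w * e * (w * e) * (w * e) = 1 := by decide +kernel

/-- Rotation of the five points. -/
def rot (i : Fin 5) : Perm (Fin 5) := finRotate 5 ^ (i : ℕ)

/-- An involution moving `i`. -/
def sigP (i : Fin 5) : Perm (Fin 5) := rot i * (swap 0 1 * swap 2 3) * (rot i)⁻¹

/-- A three-cycle fixing `i` and inverted by `sigP i`. -/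
def sP (i : Fin 5) : Perm (Fin 5) := rot i * (swap 2 3 * swap 3 4) * (rot i)⁻¹

/-- An involution fixing `i`. -/
def eP (i : Fin 5) : Perm (Fin 5) := rot i * (swap 1 4 * swap 2 3) * (rot i)⁻¹

theorem choice_facts : ∀ i : Fin 5,
    (sign (sigP i) = 1 ∧ sign (sP i) = 1 ∧ sign (eP i) = 1) ∧
    (sigP i * sigP i = 1 ∧ sigP i i ≠ i ∧ sigP i ≠ 1) ∧
    (sP i * sP i * sP i = 1 ∧ sP i i = i ∧ sigP i * sP i * sigP i = (sP i)⁻¹) ∧
    (eP i * eP i = 1 ∧ eP i ≠ 1 ∧ eP i i = i ∧ eP i (sigP i i) ≠ sigP i i) ∧
    (sigP i * eP i * (sigP i * eP i) * (sigP i * eP i) = 1 ∧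
      eP i * sigP i * (eP i * sigP i) * (eP i * sigP i) = 1) := by decide +kernel

theorem fixed_both : ∀ i : Fin 5, ∀ w : W, pm (sigP i) w = w → pm (sP i) w = w →
    w = 0 ∨ w = pt i + pt (sigP i i) := by decide +kernel

theorem pt_pair : ∀ i j : Fin 5, i ≠ j → BW (pt i) (pt j) = 1 := by decide +kernel

theorem stab_fixed : ∀ i : Fin 5, ∀ w : W, (∀ π : Perm (Fin 5), sign π = 1 → π i = i → π * π * π = 1 → pm π w = w) →
    w = 0 ∨ w = pt i := by decide +kernel

end CfsgLib.SuzType.Uniq
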