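import Mathlib
import Cfsg.Agent.Lib.SuzType.OutCount
import Cfsg.Agent.Lib.SuzType.Uniq.Combin

/-!
Two non-commuting elements `f, g` of `Q` and an element `ρ` of order three permuting `z, f, zf`: the common
centralizer of `z, f, ρ` has order 60 and centralizes `g`.
-/

set_option autoImplicit false
set_option maxHeartbeats 1000000
set_option synthInstance.maxSize 8000
set_option synthInstance.maxHeartbeats 1000000
set_option linter.style.longLine false
set_option linter.unusedSectionVars false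

namespace CfsgLib.SuzType.Uniq

open Subgroup Equiv Equiv.Perm

theorem kill_four : ∀ σ : Perm (Fin 5), sign σ = 1 → σ ≠ 1 → ∃ π : Perm (Fin 5), sign π = 1 ∧
    (σ * (π * σ * π⁻¹)) * (σ * (π * σ * π⁻¹)) * ((σ * (π * σ * π⁻¹)) * (σ * (π * σ * π⁻¹))) ≠ 1 := by
  decide +kernel

theorem even_card : Fintype.card {σ : Perm (Fin 5) // sign σ = 1} = 60 := by decide +kernel

theorem moved_partner : ∀ u : W, ∀ v : V, v.1.2 = 1 → E 1 u v = v → u = 0 := by decide +kernel

theorem card_params : Fintype.card (W × W) = 256 := by decide +kernel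

theorem BW_self' : ∀ u : W, BW u u = 0 := by decide +kernel

variable {G : Type*} [Group G] [Finite G]

/-- The data. -/
structure PairData (z : G) (Q : Subgroup G) (f g ρ t : G) : Prop where
  fQ : f ∈ Q
  gQ : g ∈ Q
  f2 : f * f = 1
  fg : f * g ≠ g * f
  rhoThree : ρ * ρ * ρ = 1
  rhoZ : ρ * z * ρ⁻¹ = f
  rhoF : ρ * f * ρ⁻¹ = z * f
  grho : g * ρ * g⁻¹ ∈ closure ({z, f, ρ} : Set G)
  tt : t * t = 1
  tz : t * z = z * t
  tf : t * f = f * t
  tg : t * g = g * t
  tr : t * ρ = ρ * t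
  tQ : t ∉ Q

variable {z : G} {Q : Subgroup G}

/-- Coordinates moved by an element of the centralizer. -/
noncomputable def moveCoord (K : Coord z Q 1) (H : Hyp z Q) {c : G} (hc : c * z = z * c) : Coord z Q 1 where
  vec y := K.act c (K.vec y)
  mul hx hy := by rw [K.mul hx hy, K.act_add H hc]
  zero_iff hx := by
    rw [← K.zero_iff hx]
    exact ⟨fun h => K.act_injective H hc (h.trans (K.act_zero H hc).symm), fun h => by rw [h, K.act_zero H hc]⟩
  surj v := by
    refine ⟨K.lift (K.act c⁻¹ v), K.lift_mem _, ?_⟩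
    rw [K.vec_lift, ← K.act_mul H hc (Commute.inv_left hc).eq, mul_inv_cancel, K.act_one H]
  sq hx := by rw [K.sq hx, K.act_q H hc]
  conj hx hy := by rw [K.conj hx hy, K.act_B H hc]

theorem PairData.exists_base {f g ρ t : G} (D : PairData z Q f g ρ t) (H : Hyp z Q) :
    ∃ K : Coord z Q 1, Base K f ρ := by
  obtain ⟨K⟩ := H.exists_minus
  have hv : K.vec f ≠ 0 := fun h => by
    rcases (K.zero_iff D.fQ).1 h with rfl | rfl
    · exact D.fg (by rw [one_mul, mul_one])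
    · exact D.fg (H.extra.comm_z D.gQ).symm
  obtain ⟨c, hc, hcv⟩ := K.transitive H hv ((K.invol_iff H.extra.ne_one D.fQ).1 D.f2)
    (w := x0) (by decide) (by decide)
  exact ⟨moveCoord K H hc, H, D.fQ, hcv, D.rhoZ⟩

section Frame

variable {K : Coord z Q 1} {f g ρ t : G} (S : Base K f ρ) (D : PairData z Q f g ρ t)

/-- `n` centralizes `z, f` and induces `σ` on the five points. -/
def Img (S : Base K f ρ) (n : G) (σ : Perm (Fin 5)) : Prop :=
  n * z = z * n ∧ n * f = f * n ∧ ∀ i, K.res n (pt i) = pt (σ i)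

/-- Membership in the common centralizer of `z, f, ρ`. -/
def InC (S : Base K f ρ) (n : G) : Prop := n * z = z * n ∧ n * f = f * n ∧ n * ρ = ρ * n

include S

theorem act_x0 {n : G} (hz : n * z = z * n) (hf : n * f = f * n) : K.act n x0 = x0 := by
  rw [← S.hxv, K.act_vec S.hyp hz S.hx, hf, mul_inv_cancel_right]

theorem img_exists {n : G} (hz : n * z = z * n) (hf : n * f = f * n) :
    ∃ σ, sign σ = 1 ∧ Img S n σ := by
  let c : K.P S.hyp := ⟨⟨n, mem_centralizer_singleton_iff.2 hz⟩, act_x0 S hz hf⟩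
  refine ⟨K.rho S.hyp c, Equiv.Perm.mem_alternatingGroup.1 ?_, hz, hf, K.rho_spec S.hyp c⟩
  rw [← S.rho_range]
  exact ⟨c, rfl⟩

theorem img_unique {n : G} {σ τ : Perm (Fin 5)} (h : Img S n σ) (h' : Img S n τ) : σ = τ :=
  Equiv.ext fun i => pt_injective ((h.2.2 i).symm.trans (h'.2.2 i))

theorem img_sign {n : G} {σ : Perm (Fin 5)} (h : Img S n σ) : sign σ = 1 := by
  obtain ⟨τ, hτ, h'⟩ := img_exists S h.1 h.2.1
  rwa [img_unique S h h']

theorem img_mul {n m : G} {σ τ : Perm (Fin 5)} (h : Img S n σ) (h' : Img S m τ) :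
    Img S (n * m) (σ * τ) := by
  refine ⟨(Commute.mul_left h.1 h'.1).eq, (Commute.mul_left h.2.1 h'.2.1).eq, fun i => ?_⟩
  rw [K.res_mul S.hyp h.1 h'.1 (act_x0 S h.1 h.2.1) (act_x0 S h'.1 h'.2.1), h'.2.2, h.2.2]
  rfl

theorem img_one : Img S 1 1 :=
  ⟨by rw [one_mul, mul_one], by rw [one_mul, mul_one], fun i => K.res_one S.hyp _⟩

theorem img_inv {n : G} {σ : Perm (Fin 5)} (h : Img S n σ) : Img S n⁻¹ σ⁻¹ := by
  obtain ⟨τ, -, h'⟩ := img_exists S (n := n⁻¹) (Commute.inv_left h.1).eq (Commute.inv_left h.2.1).eq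
  have := img_mul S h' h
  rw [inv_mul_cancel] at this
  rwa [← eq_inv_of_mul_eq_one_left (img_unique S this (img_one S))]

theorem img_res {n : G} {σ : Perm (Fin 5)} (h : Img S n σ) (w : W) : K.res n w = pm σ w :=
  pm_spec (K.res_add S.hyp h.1) h.2.2 w

theorem img_par {n : G} : Img S n 1 ↔ ∃ p, S.Par n p := by
  refine ⟨fun h => S.par_of h.1 h.2.1 fun w =>
    ext_pt (g := fun w => w) (K.res_add S.hyp h.1) (fun a b => rfl) h.2.2 w, fun ⟨p, hp⟩ => ?_⟩
  obtain ⟨h1, h2, -, h4, -⟩ := S.par_comm hp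
  exact ⟨h1, h2, fun i => h4 _⟩

theorem img_lift {σ : Perm (Fin 5)} (hσ : sign σ = 1) : ∃ n, Img S n σ := by
  obtain ⟨d, h1, h2, -, h4⟩ := S.exists_perm (Equiv.Perm.mem_alternatingGroup.2 hσ)
  exact ⟨d, h1, h2, h4⟩

include D

theorem rho_inv : ρ⁻¹ = ρ * ρ := inv_eq_of_mul_eq_one_right (by rw [← mul_assoc, D.rhoThree])

theorem conj_mem {n : G} (hz : n * z = z * n) (hf : n * f = f * n) :
    ρ * n * ρ⁻¹ * z = z * (ρ * n * ρ⁻¹) ∧ ρ * n * ρ⁻¹ * f = f * (ρ * n * ρ⁻¹) := by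
  have key : ∀ {v : G}, Commute n v → Commute (ρ * n * ρ⁻¹) (ρ * v * ρ⁻¹) := fun {v} h => by
    show _ * _ = _ * _
    rw [show ρ * n * ρ⁻¹ * (ρ * v * ρ⁻¹) = ρ * (n * v) * ρ⁻¹ by group, h.eq]; group
  have h1 : Commute (ρ * n * ρ⁻¹) f := D.rhoZ ▸ key hz
  have h2 : Commute (ρ * n * ρ⁻¹) (z * f) := D.rhoF ▸ key hf
  refine ⟨?_, h1.eq⟩
  have := h2.mul_right h1
  rw [mul_assoc z, D.f2, mul_one] at this
  exact this.eq

theorem conj_mem' {n : G} (hz : n * z = z * n) (hf : n * f = f * n) :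
    ρ⁻¹ * n * ρ * z = z * (ρ⁻¹ * n * ρ) ∧ ρ⁻¹ * n * ρ * f = f * (ρ⁻¹ * n * ρ) := by
  obtain ⟨a, b⟩ := conj_mem S D hz hf
  obtain ⟨a', b'⟩ := conj_mem S D a b
  rw [show ρ⁻¹ * n * ρ = ρ * (ρ * n * ρ⁻¹) * ρ⁻¹ by
    calc ρ⁻¹ * n * ρ = (ρ * ρ) * n * (ρ⁻¹ * ρ⁻¹) := by
          rw [rho_inv S D]
          calc ρ * ρ * n * ρ = ρ * ρ * n * (1 * ρ) := by rw [one_mul]
            _ = ρ * ρ * n * ((ρ * ρ * ρ) * ρ) := by rw [D.rhoThree]
            _ = ρ * ρ * n * (ρ * ρ * (ρ * ρ)) := by group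
      _ = _ := by group]
  exact ⟨a', b'⟩

theorem kernel_conj {n : G} (h : Img S n 1) : Img S (ρ * n * ρ⁻¹) 1 := by
  obtain ⟨a, b⟩ := conj_mem S D h.1 h.2.1
  obtain ⟨σ, hσ, h'⟩ := img_exists S a b
  suffices σ = 1 by rwa [this] at h'
  by_contra hne
  obtain ⟨π, hπ, hk⟩ := kill_four σ hσ hne
  obtain ⟨y, hy⟩ := img_lift S hπ
  obtain ⟨a', b'⟩ := conj_mem' S D hy.1 hy.2.1
  obtain ⟨τ, -, hy'⟩ := img_exists S a' b'
  set m := n * (ρ⁻¹ * y * ρ * n * (ρ⁻¹ * y * ρ)⁻¹) with hm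
  have h1 : Img S m 1 := by
    have := img_mul S h (img_mul S (img_mul S hy' h) (img_inv S hy'))
    rw [one_mul, mul_one, mul_inv_cancel] at this
    exact this
  obtain ⟨p, hp⟩ := (img_par S).1 h1
  have h4 : m * m * (m * m) = 1 := by rw [S.par_sq hp, S.el_sq]
  have h2 : Img S (ρ * m * ρ⁻¹) (σ * (π * σ * π⁻¹)) := by
    have := img_mul S h' (img_mul S (img_mul S hy h') (img_inv S hy))
    rwa [show ρ * n * ρ⁻¹ * (y * (ρ * n * ρ⁻¹) * y⁻¹) = ρ * m * ρ⁻¹ by rw [hm]; group] at this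
  refine hk (img_unique S (img_mul S (img_mul S h2 h2) (img_mul S h2 h2)) ?_)
  rw [show ρ * m * ρ⁻¹ * (ρ * m * ρ⁻¹) * (ρ * m * ρ⁻¹ * (ρ * m * ρ⁻¹)) = ρ * (m * m * (m * m)) * ρ⁻¹ by group,
    h4, mul_one, mul_inv_cancel]
  exact img_one S

theorem t_img : ∃ τ, sign τ = 1 ∧ τ * τ = 1 ∧ τ ≠ 1 ∧ Img S t τ := by
  obtain ⟨τ, hτ, h⟩ := img_exists S D.tz D.tf
  refine ⟨τ, hτ, ?_, ?_, h⟩
  · have := img_mul S h h
    rw [D.tt] at this
    exact img_unique S this (img_one S)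
  · rintro rfl
    obtain ⟨p, hp⟩ := (img_par S).1 h
    have hu : p.1 = 0 := by
      refine moved_partner p.1 (K.vec g) ?_ ?_
      · refine (zcases _).resolve_left fun e => ?_
        exact D.fg ((S.comm_x_iff D.gQ).2 e).symm
      · rw [← S.par_act hp, K.act_vec S.hyp D.tz D.gQ, D.tg, mul_inv_cancel_right]
    obtain ⟨r, q, hr, hq, -, rfl, hru, -⟩ := hp
    exact D.tQ (mul_mem ((S.ur_zero hr).1 (hru.trans hu)) hq)

theorem img_conj {n : G} {σ : Perm (Fin 5)} (h : Img S n σ) : Img S (ρ * n * ρ⁻¹) σ := by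
  classical
  let α : Perm (Fin 5) → Perm (Fin 5) := fun σ =>
    if hs : sign σ = 1 then
      Classical.choose (img_exists S (conj_mem S D (Classical.choose_spec (img_lift S hs)).1
        (Classical.choose_spec (img_lift S hs)).2.1).1
        (conj_mem S D (Classical.choose_spec (img_lift S hs)).1
          (Classical.choose_spec (img_lift S hs)).2.1).2)
    else σ
  have hα : ∀ {n : G} {σ : Perm (Fin 5)}, Img S n σ → Img S (ρ * n * ρ⁻¹) (α σ) := by
    intro n σ h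
    have hs := img_sign S h
    simp only [α, dif_pos hs]
    have hn0 := Classical.choose_spec (img_lift S hs)
    have h0 := (Classical.choose_spec (img_exists S (conj_mem S D hn0.1 hn0.2.1).1
      (conj_mem S D hn0.1 hn0.2.1).2)).2
    have h1 : Img S ((Classical.choose (img_lift S hs))⁻¹ * n) 1 := by
      simpa using img_mul S (img_inv S hn0) h
    have := img_mul S h0 (kernel_conj S D h1)
    rw [mul_one] at this
    rwa [show ρ * Classical.choose (img_lift S hs) * ρ⁻¹ *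
      (ρ * ((Classical.choose (img_lift S hs))⁻¹ * n) * ρ⁻¹) = ρ * n * ρ⁻¹ by group] at this
  obtain ⟨τ, hτ, hτ2, hτ1, ht⟩ := t_img S D
  have hid : α σ = σ := by
    refine alpha_trivial α (fun a ha => ?_) (fun a b ha hb => ?_) (fun a ha => ?_) hτ hτ2 hτ1 ?_ σ (img_sign S h)
    · obtain ⟨n, hn⟩ := img_lift S ha
      exact img_sign S (hα hn)
    · obtain ⟨n, hn⟩ := img_lift S ha
      obtain ⟨m, hm⟩ := img_lift S hb
      have h2 := img_mul S (hα hn) (hα hm)
      rw [show ρ * n * ρ⁻¹ * (ρ * m * ρ⁻¹) = ρ * (n * m) * ρ⁻¹ by group] at h2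
      exact img_unique S (hα (img_mul S hn hm)) h2
    · obtain ⟨n, hn⟩ := img_lift S ha
      have h3 := hα (hα (hα hn))
      rw [show ρ * (ρ * (ρ * n * ρ⁻¹) * ρ⁻¹) * ρ⁻¹ = ρ * ρ * ρ * n * (ρ * ρ * ρ)⁻¹ by group, D.rhoThree,
        one_mul, inv_one, mul_one] at h3
      exact img_unique S h3 hn
    · have h3 := hα ht
      rw [← D.tr, mul_inv_cancel_right] at h3
      exact img_unique S h3 ht
  have := hα h
  rwa [hid] at this

theorem lift_C {σ : Perm (Fin 5)} (hσ : sign σ = 1) : ∃ n, InC S n ∧ Img S n σ := by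
  classical
  obtain ⟨n0, hn0⟩ := img_lift S hσ
  let T := {n : G // Img S n σ}
  let e : T ≃ {n : G // Img S n 1} :=
    { toFun := fun n => ⟨n0⁻¹ * n.1, by simpa using img_mul S (img_inv S hn0) n.2⟩
      invFun := fun n => ⟨n0 * n.1, by simpa using img_mul S hn0 n.2⟩
      left_inv := fun n => Subtype.ext (mul_inv_cancel_left n0 n.1)
      right_inv := fun n => Subtype.ext (inv_mul_cancel_left n0 n.1) }
  have : Fintype T := Fintype.ofFinite T
  have hcard : Fintype.card T = 1024 := by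
    rw [← Nat.card_eq_fintype_card, Nat.card_congr e,
      Nat.card_congr (Equiv.subtypeEquivRight fun n => show Img S n 1 ↔ ∃ p, True ∧ S.Par n p by
        rw [img_par S]; simp), S.card_par fun _ => True,
      Finset.filter_true_of_mem (fun _ _ => trivial), Finset.card_univ, card_params]
  let cj : T → T := fun n => ⟨ρ * n.1 * ρ⁻¹, img_conj S D n.2⟩
  have hcj : Function.Bijective cj := Finite.injective_iff_bijective.1 fun a b h => Subtype.ext (by
    simpa [cj] using congrArg Subtype.val h)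
  obtain ⟨n, hn⟩ := Equiv.Perm.exists_fixed_point_of_prime (p := 3) (n := 1)
    (hp := ⟨Nat.prime_three⟩) (by rw [hcard]; norm_num) (σ := Equiv.ofBijective cj hcj) (by
      refine Equiv.ext fun n => Subtype.ext ?_
      show ρ * (ρ * (ρ * n.1 * ρ⁻¹) * ρ⁻¹) * ρ⁻¹ = n.1
      rw [show ρ * (ρ * (ρ * n.1 * ρ⁻¹) * ρ⁻¹) * ρ⁻¹ = ρ * ρ * ρ * n.1 * (ρ * ρ * ρ)⁻¹ by group,
        D.rhoThree, one_mul, inv_one, mul_one])
  exact ⟨n.1, ⟨n.2.1, n.2.2.1, (mul_inv_eq_iff_eq_mul.1 (congrArg Subtype.val hn)).symm⟩, n.2⟩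

theorem rho_fixed_four {n : G} (hn : InC S n) (h : n = 1 ∨ n = z ∨ n = f ∨ n = z * f) : n = 1 := by
  have hfix : ρ * n * ρ⁻¹ = n := by rw [← hn.2.2, mul_inv_cancel_right]
  rcases h with rfl | rfl | rfl | rfl
  · rfl
  · rw [D.rhoZ] at hfix
    exact absurd hfix S.x_ne.2
  · rw [D.rhoF, mul_eq_right] at hfix
    exact absurd hfix S.hyp.extra.ne_one
  · rw [show ρ * (z * f) * ρ⁻¹ = (ρ * z * ρ⁻¹) * (ρ * f * ρ⁻¹) by group, D.rhoZ, D.rhoF, ← mul_assoc,
      ← S.xz.symm, mul_assoc z f f, D.f2, mul_one, left_eq_mul] at hfix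
    exact absurd hfix S.x_ne.1

theorem axis_trivial {n : G} {p : W × W} (hn : InC S n) (hp : S.Par n p) (h : p.1 = 0 ∨ p.2 = 0) :
    n = 1 := by
  have hfix : ρ⁻¹ * n * ρ = n := by rw [mul_assoc, hn.2.2, inv_mul_cancel_left]
  have hQ : n ∈ Q := by
    obtain ⟨r, q, hr, hq, hqx, e, hu, hw⟩ := hp
    rcases h with h | h
    · rw [e]; exact mul_mem ((S.ur_zero hr).1 (hu.trans h)) hq
    · obtain ⟨i, j, rfl⟩ := S.exists_el hq ((S.comm_x_iff hq).1 hqx) (hw.trans h)
      have := (S.mem_R.1 (mul_mem hr (S.el_R i j))).1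
      rwa [← e, hfix] at this
  exact rho_fixed_four S D hn (S.four hQ (by rwa [hfix]))

theorem inC_mul {n m : G} (h : InC S n) (h' : InC S m) : InC S (n * m) :=
  ⟨(Commute.mul_left h.1 h'.1).eq, (Commute.mul_left h.2.1 h'.2.1).eq, (Commute.mul_left h.2.2 h'.2.2).eq⟩

theorem inC_inv {n : G} (h : InC S n) : InC S n⁻¹ :=
  ⟨(Commute.inv_left h.1).eq, (Commute.inv_left h.2.1).eq, (Commute.inv_left h.2.2).eq⟩

theorem par_move {n y : G} {u w : W} {π : Perm (Fin 5)} (hp : S.Par n (u, w)) (hy : Img S y π) :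
    S.Par (y * n * y⁻¹ * n) (u + pm π u, w + pm π w) := by
  have h2 := S.par_conj hy.1 hy.2.1 hp
  rw [img_res S hy, img_res S hy] at h2
  have h3 := S.par_mul h2 hp
  simp only [Prod.mk_add_mk] at h3
  rwa [add_comm u, add_comm w]

theorem kernel_trivial {n : G} (hn : InC S n) (h : Img S n 1) : n = 1 := by
  obtain ⟨⟨u, w⟩, hp⟩ := (img_par S).1 h
  by_cases hu : u = 0
  · exact axis_trivial S D hn hp (Or.inl hu)
  by_cases hw : w = 0
  · exact axis_trivial S D hn hp (Or.inr hw)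
  exfalso
  obtain rfl : w = u := by
    refine graph_diag u w hu hw fun π hπ hfix => ?_
    obtain ⟨y, hy, hyi⟩ := lift_C S D hπ
    have hp' := par_move S D hp hyi
    have hm := axis_trivial S D (inC_mul S D (inC_mul S D (inC_mul S D hy hn) (inC_inv S D hy)) hn) hp'
      (Or.inl (by rw [hfix]; exact addW u))
    rw [hm] at hp'
    have := congrArg Prod.snd (S.par_unique hp' S.par_one)
    simp only [Prod.snd_zero] at this
    exact ((add_eq_zero_iff_eq_neg.1 ((add_comm _ _).trans this)).trans (neg_eq_of_add_eq_zero_left (addW w)))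
  have hsing : ∀ {m : G} {v : W}, InC S m → S.Par m (v, v) → qW 1 v = 0 := fun {m v} hm hpm => by
    have h2 : m * m = 1 := axis_trivial S D (inC_mul S D hm hm) (S.par_mul hpm hpm) (Or.inl (addW v))
    have := ((S.par_sq_one hpm).1 h2).1
    simpa [psq1, BW_self'] using this
  obtain ⟨π, hπ, h1⟩ := singular_moved w hw
  obtain ⟨y, hy, hyi⟩ := lift_C S D hπ
  have := hsing (inC_mul S D (inC_mul S D (inC_mul S D hy hn) (inC_inv S D hy)) hn) (par_move S D hp hyi)
  rw [h1] at this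
  exact one_ne_zero this

theorem img_inj {n m : G} {σ : Perm (Fin 5)} (hn : InC S n) (hm : InC S m) (h : Img S n σ)
    (h' : Img S m σ) : n = m := by
  have := kernel_trivial S D (inC_mul S D (inC_inv S D hn) hm) (by simpa using img_mul S (img_inv S h) h')
  exact inv_mul_eq_one.1 this

theorem comm_g {n : G} (hn : InC S n) : n * g = g * n := by
  have hgz : g * z = z * g := S.hyp.extra.comm_z D.gQ
  have hgQ' := inv_mem D.gQ
  have hgf : g * f * g⁻¹ = z * f := by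
    rw [K.conj D.fQ D.gQ, if_neg]
    exact fun e => D.fg ((K.comm_iff S.hyp.extra.ne_one D.fQ D.gQ).2 e)
  have hgf' : g⁻¹ * f * g = z * f := by
    have : g⁻¹ * (g * f * g⁻¹) * g = g⁻¹ * (z * f) * g := by rw [hgf]
    rw [show g⁻¹ * (g * f * g⁻¹) * g = f by group, ← mul_assoc g⁻¹ z f,
      show g⁻¹ * z = z * g⁻¹ from (Commute.inv_left hgz).eq] at this
    calc g⁻¹ * f * g = z * z * (g⁻¹ * f * g) := by rw [S.hyp.extra.sq_one, one_mul]
      _ = z * (z * g⁻¹ * f * g) := by group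
      _ = z * f := by rw [← this]
  obtain ⟨σ, -, hσ⟩ := img_exists S hn.1 hn.2.1
  have hle : closure ({z, f, ρ} : Set G) ≤ centralizer ({n} : Set G) := by
    rw [closure_le]
    rintro y (rfl | rfl | rfl) <;> rw [SetLike.mem_coe, mem_centralizer_singleton_iff]
    exacts [hn.1.symm, hn.2.1.symm, hn.2.2.symm]
  have hr : Commute n (g * ρ * g⁻¹) := (mem_centralizer_singleton_iff.1 (hle D.grho)).symm
  -- the conjugate of `n` by `g⁻¹`
  set m := g⁻¹ * n * g with hm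
  have hconj : ∀ {v : G}, Commute n (g * v * g⁻¹) → Commute m v := fun {v} h => by
    show _ * _ = _ * _
    calc g⁻¹ * n * g * v = g⁻¹ * (n * (g * v * g⁻¹)) * g := by group
      _ = g⁻¹ * (g * v * g⁻¹ * n) * g := by rw [h.eq]
      _ = v * (g⁻¹ * n * g) := by group
  have hmC : InC S m := by
    refine ⟨(hconj ?_).eq, (hconj ?_).eq, (hconj hr).eq⟩
    · rw [hgz, mul_inv_cancel_right]; exact hn.1
    · rw [hgf]; exact Commute.mul_right hn.1 hn.2.1
  have hmI : Img S m σ := by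
    refine ⟨hmC.1, hmC.2.1, fun i => ?_⟩
    have hg'z : g⁻¹ * z = z * g⁻¹ := (Commute.inv_left hgz).eq
    have hng : (n * g) * z = z * (n * g) := (Commute.mul_left hn.1 hgz).eq
    rw [hm, mul_assoc, K.res_mul S.hyp hg'z hng (K.act_mem S.hyp hgQ' _)
        (by rw [K.act_mul S.hyp hn.1 hgz, K.act_mem S.hyp D.gQ, act_x0 S hn.1 hn.2.1]),
      K.res_mem S.hyp hgQ', K.res_mul S.hyp hn.1 hgz (act_x0 S hn.1 hn.2.1) (K.act_mem S.hyp D.gQ _),
      K.res_mem S.hyp D.gQ, hσ.2.2]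
  have e := img_inj S D hmC hn hmI hσ
  calc n * g = g * (g⁻¹ * n * g) := by group
    _ = g * n := by rw [← hm, e]

omit D in
theorem mem_cent {n : G} : n ∈ centralizer ({z, f, ρ} : Set G) ↔ InC S n := by
  rw [mem_centralizer_iff]
  exact ⟨fun h => ⟨(h z (by simp)).symm, (h f (by simp)).symm, (h ρ (by simp)).symm⟩,
    fun h y hy => by rcases hy with rfl | rfl | rfl; exacts [h.1.symm, h.2.1.symm, h.2.2.symm]⟩

theorem card_cent : Nat.card (centralizer ({z, f, ρ} : Set G)) = 60 := by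
  classical
  rw [← even_card, ← Nat.card_eq_fintype_card]
  choose F hF hF' using fun σ : {σ : Perm (Fin 5) // sign σ = 1} => lift_C S D σ.2
  refine (Nat.card_congr (Equiv.ofBijective
    (fun σ => (⟨F σ, (mem_cent S).2 (hF σ)⟩ : centralizer ({z, f, ρ} : Set G))) ⟨fun a b h => ?_, fun n => ?_⟩)).symm
  · have e : F a = F b := congrArg Subtype.val h
    exact Subtype.ext (img_unique S (hF' a) (e ▸ hF' b))
  · obtain ⟨h1, h2, h3⟩ := (mem_cent S).1 n.2
    obtain ⟨σ, hσ, hi⟩ := img_exists S h1 h2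
    exact ⟨⟨σ, hσ⟩, Subtype.ext (img_inj S D (hF _) ⟨h1, h2, h3⟩ (hF' _) hi)⟩

end Frame

theorem PairData.main {f g ρ t : G} (D : PairData z Q f g ρ t) (H : Hyp z Q) :
    Nat.card (centralizer ({z, f, ρ} : Set G)) = 60 ∧
      ∀ n ∈ centralizer ({z, f, ρ} : Set G), n * g = g * n := by
  obtain ⟨K, S⟩ := D.exists_base H
  exact ⟨card_cent S D, fun n hn => comm_g S D ((mem_cent S).1 hn)⟩

end CfsgLib.SuzType.Uniq
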