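import Mathlib
import Cfsg.Agent.Lib.SuzType.SevenNorm
import Cfsg.Agent.Lib.SuzType.Uniq.Pair

/-!
Two such pairs sharing `f, g`: their centralizers of order 60 coincide, centralize `b`, and contain elements
`d, e` completing the generators of the presented Suzuki group.
-/

set_option autoImplicit false
set_option maxHeartbeats 1000000
set_option synthInstance.maxSize 8000
set_option synthInstance.maxHeartbeats 1000000
set_option linter.style.longLine false
set_option linter.unusedSectionVars false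

namespace CfsgLib.SuzType.Uniq

open Subgroup Equiv Equiv.Perm

theorem five_choice : ∀ i : Fin 5, ∃ κ : Perm (Fin 5), sign κ = 1 ∧ κ i = i ∧
    κ * sigP i ≠ 1 ∧ κ * sigP i * (κ * sigP i) * (κ * sigP i) * (κ * sigP i) * (κ * sigP i) = 1 := by
  decide +kernel

theorem x0_pair : ∀ v v' y : V, v.1.2 = 0 → v'.1.2 = 0 → y.1.2 = 1 → v.2 = v'.2 → B v y = B v' y → v = v' := by
  decide +kernel

theorem card_altFour : Nat.card (alternatingGroup (Fin 4)) = 12 := by
  rw [Nat.card_eq_fintype_card]; decide +kernel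

variable {G : Type*} [Group G] [Finite G] {z : G} {Q : Subgroup G}

/-- An element centralizing an element of order seven has no order five. -/
theorem no_five (H : Hyp z Q) {u n : G} (hu : orderOf u = 7) (hn : Commute n u) (h5 : n ^ 5 = 1) :
    n = 1 := by
  classical
  have : Fact (Nat.Prime 7) := ⟨by norm_num⟩
  have hcu : Nat.card (zpowers u) = 7 := by rw [Nat.card_zpowers, hu]
  obtain ⟨B, hB⟩ := (IsPGroup.of_card (n := 1) (by rw [hcu, pow_one]) : IsPGroup 7 (zpowers u)).exists_le_sylow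
  have hB7 : Nat.card (B : Subgroup G) = 7 := by
    rw [B.card_eq_multiplicity, H.card_G, show 448345497600 = 7 * 64049356800 from rfl,
      Nat.factorization_mul (by norm_num) (by norm_num), Finsupp.add_apply,
      Nat.Prime.factorization_self (by norm_num : Nat.Prime 7),
      Nat.factorization_eq_zero_of_not_dvd (by norm_num : ¬ 7 ∣ 64049356800)]
    norm_num
  have e : (B : Subgroup G) = zpowers u := (eq_of_le_of_card_ge hB (by rw [hB7, hcu])).symm
  obtain ⟨⟨φ⟩, -⟩ := H.seven_norm B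
  have hcard : Nat.card (centralizer ((B : Subgroup G) : Set G)) = 84 := by
    rw [Nat.card_congr φ.toEquiv, Nat.card_prod, card_altFour, Nat.card_congr Multiplicative.toAdd, Nat.card_zmod]
  have hmem : n ∈ centralizer ((B : Subgroup G) : Set G) := by
    rw [e, mem_centralizer_iff]
    rintro y ⟨k, rfl⟩
    exact (hn.zpow_right k).eq.symm
  have h84 := _root_.orderOf_dvd_natCard (⟨n, hmem⟩ : centralizer ((B : Subgroup G) : Set G))
  rw [Subgroup.orderOf_mk, hcard] at h84
  have h5' := orderOf_dvd_of_pow_eq_one h5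
  have := Nat.dvd_gcd h84 h5'
  rw [show Nat.gcd 84 5 = 1 from rfl, Nat.dvd_one] at this
  exact orderOf_eq_one_iff.1 this

/-- The data: two pairs and the point `c`. -/
structure FrameData (z : G) (Q : Subgroup G) (b c f g ρ η t : G) : Prop where
  pair1 : PairData z Q f g ρ t
  pair2 : PairData z Q g f η t
  cQ : c ∈ Q
  cc : c * c = 1
  cf : c * f = f * c
  cg : c * g = g * c
  c_ne : c ≠ 1 ∧ c ≠ z ∧ c ≠ f ∧ c ≠ z * f
  tc : t * c = c * t
  b_word : b ∈ closure ({z, f, g, ρ, η} : Set G)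
  qt : ∀ q ∈ Q, q * t = t * q → q * f = f * q → q * g = g * q → q = 1 ∨ q = z ∨ q = c ∨ q = z * c
  seven : ∃ u ∈ closure ({z, f, g, ρ, c * η * c} : Set G), orderOf u = 7

/-- Membership in the second centralizer. -/
def InC2 (z g η n : G) : Prop := n * z = z * n ∧ n * g = g * n ∧ n * η = η * n

section Link

variable {K : Coord z Q 1} {b c f g ρ η t : G} (S : Base K f ρ) (D : FrameData z Q b c f g ρ η t)
  {i : Fin 5} (hi : (K.vec c).2 = pt i)
include S D

omit hi in
theorem cz : c * z = z * c := S.hyp.extra.comm_z D.cQ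

omit hi in
theorem exists_point : ∃ i, (K.vec c).2 = pt i := by
  have h12 := (S.comm_x_iff D.cQ).1 D.cf
  refine pt_exists _ (fun h => ?_) ?_
  · obtain ⟨p, q, hpq⟩ := S.exists_el D.cQ h12 h
    obtain ⟨h1, h2, h3, h4⟩ := D.c_ne
    rcases zcases p with rfl | rfl <;> rcases zcases q with rfl | rfl <;> simp [Base.el] at hpq
    exacts [h1 hpq, h3 hpq, h2 hpq, h4 hpq]
  · have := (K.invol_iff S.hyp.extra.ne_one D.cQ).1 D.cc
    simpa [qV, h12] using this

omit hi in
theorem in1_g {n : G} (hn : InC S n) : n * g = g * n := comm_g S D.pair1 hn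

omit hi in
theorem in2_f {n : G} (hn : InC2 z g η n) : n * f = f * n := by
  refine (D.pair2.main S.hyp).2 n ?_
  rw [mem_centralizer_iff]
  rintro y (rfl | rfl | rfl)
  exacts [hn.1.symm, hn.2.1.symm, hn.2.2.symm]

omit hi in
theorem in2_mul {n m : G} (h : InC2 z g η n) (h' : InC2 z g η m) : InC2 z g η (n * m) :=
  ⟨(Commute.mul_left h.1 h'.1).eq, (Commute.mul_left h.2.1 h'.2.1).eq, (Commute.mul_left h.2.2 h'.2.2).eq⟩

omit hi in
theorem in2_inv {n : G} (h : InC2 z g η n) : InC2 z g η n⁻¹ :=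
  ⟨(Commute.inv_left h.1).eq, (Commute.inv_left h.2.1).eq, (Commute.inv_left h.2.2).eq⟩

omit hi in
theorem ker_g {n : G} (h : Img S n 1) (hg : n * g = g * n) : n ∈ Q := by
  obtain ⟨p, hp⟩ := (img_par S).1 h
  have hu : p.1 = 0 := by
    refine moved_partner p.1 (K.vec g) ?_ ?_
    · refine (zcases _).resolve_left fun e => ?_
      exact D.pair1.fg ((S.comm_x_iff D.pair1.gQ).2 e).symm
    · rw [← S.par_act hp, K.act_vec S.hyp h.1 D.pair1.gQ, hg, mul_inv_cancel_right]
  obtain ⟨r, q, hr, hq, -, rfl, hru, -⟩ := hp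
  exact mul_mem ((S.ur_zero hr).1 (hru.trans hu)) hq

omit hi in
theorem in2_Q {n : G} (hn : InC2 z g η n) (hQ : n ∈ Q) : n = 1 := by
  obtain ⟨K', S'⟩ := D.pair2.exists_base S.hyp
  have hf := in2_f S D hn
  exact kernel_trivial S' D.pair2 ⟨hn.1, hn.2.1, hn.2.2⟩ ⟨hn.1, hn.2.1, fun j => K'.res_mem S.hyp hQ _⟩

omit hi in
theorem in2_inj {n m : G} {σ : Perm (Fin 5)} (hn : InC2 z g η n) (hm : InC2 z g η m) (h : Img S n σ)
    (h' : Img S m σ) : n = m := by
  have h1 : Img S (n⁻¹ * m) 1 := by simpa using img_mul S (img_inv S h) h'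
  have h2 := in2_mul S D (in2_inv S D hn) hm
  exact inv_mul_eq_one.1 (in2_Q S D h2 (ker_g S D h1 h2.2.1))

omit hi in
theorem in2_lift {σ : Perm (Fin 5)} (hσ : sign σ = 1) : ∃ n, InC2 z g η n ∧ Img S n σ := by
  classical
  set C := centralizer ({z, g, η} : Set G) with hC
  have hmem : ∀ n : C, InC2 z g η n.1 := fun n => by
    have h := mem_centralizer_iff.1 n.2
    exact ⟨(h z (by simp)).symm, (h g (by simp)).symm, (h η (by simp)).symm⟩
  choose F hF hF' using fun n : C => img_exists S (hmem n).1 (in2_f S D (hmem n))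
  let e : C → {σ : Perm (Fin 5) // sign σ = 1} := fun n => ⟨F n, hF n⟩
  have he : Function.Bijective e := by
    refine (Nat.bijective_iff_injective_and_card e).2 ⟨fun a b h => Subtype.ext ?_, ?_⟩
    · have h' : F a = F b := congrArg Subtype.val h
      exact in2_inj S D (hmem a) (hmem b) (hF' a) (h' ▸ hF' b)
    · rw [hC, (D.pair2.main S.hyp).1, Nat.card_eq_fintype_card, even_card]
  obtain ⟨n, hn⟩ := he.2 ⟨σ, hσ⟩
  exact ⟨n.1, hmem n, by
    have := hF' n
    rwa [show F n = σ from congrArg Subtype.val hn] at this⟩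

include hi

theorem tail_conj {n : G} {σ : Perm (Fin 5)} (h : Img S n σ) :
    (K.vec (n * c * n⁻¹)).2 = pt (σ i) ∧ (K.vec (n * c * n⁻¹)).1.2 = 0 := by
  have h12 := (S.comm_x_iff D.cQ).1 D.cf
  refine ⟨?_, (S.comm_x_iff (S.hyp.norm n h.1 c D.cQ)).1 ?_⟩
  · rw [← K.act_vec S.hyp h.1 D.cQ, K.res_perp S.hyp h.1 (act_x0 S h.1 h.2.1) _ h12, hi, h.2.2]
  · exact ((Commute.mul_left h.2.1 D.cf).mul_left (Commute.inv_left h.2.1)).eq

theorem fix_c {n : G} {σ : Perm (Fin 5)} (h : Img S n σ) (hg : n * g = g * n) (hσi : σ i = i)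
    (h3 : n * n * n = 1) : n * c = c * n := by
  have hncQ := S.hyp.norm n h.1 c D.cQ
  obtain ⟨e1, e2⟩ := tail_conj S D hi h
  have hgc : Commute (n * c * n⁻¹) g :=
    ((Commute.mul_left (show Commute n g from hg) D.cg).mul_left (Commute.inv_left hg))
  have hv : K.vec (n * c * n⁻¹) = K.vec c := by
    refine x0_pair _ _ (K.vec g) e2 ((S.comm_x_iff D.cQ).1 D.cf) ?_ (by rw [e1, hσi, hi]) ?_
    · exact (zcases _).resolve_left fun e => D.pair1.fg ((S.comm_x_iff D.pair1.gQ).2 e).symm
    · rw [(K.comm_iff S.hyp.extra.ne_one hncQ D.pair1.gQ).1 hgc.eq,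
        (K.comm_iff S.hyp.extra.ne_one D.cQ D.pair1.gQ).1 D.cg]
  rcases K.eq_or S.hyp hncQ D.cQ hv with e | e
  · exact mul_inv_eq_iff_eq_mul.1 e
  · exfalso
    have h2 : n * (n * c * n⁻¹) * n⁻¹ = c := by
      rw [e, show n * (z * c) * n⁻¹ = (n * z) * n⁻¹ * (n * c * n⁻¹) by group, h.1, mul_inv_cancel_right, e,
        ← mul_assoc, S.hyp.extra.sq_one, one_mul]
    have e3 : n * n * n * c * (n * n * n)⁻¹ = z * c := by
      calc n * n * n * c * (n * n * n)⁻¹ = n * (n * (n * c * n⁻¹) * n⁻¹) * n⁻¹ := by group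
        _ = z * c := by rw [h2, e]
    rw [h3, one_mul, inv_one, mul_one] at e3
    exact S.hyp.extra.ne_one (right_eq_mul.1 e3)

theorem in1_stab {n : G} {σ : Perm (Fin 5)} (hn : InC S n) (h : Img S n σ) (hσi : σ i = i) :
    n * c = c * n := by
  obtain ⟨a, ha, hai, ha3, hb3⟩ := stab_split i σ (img_sign S h) hσi
  obtain ⟨m, hm, hmi⟩ := lift_C S D.pair1 ha
  have hcube : ∀ {y : G} {π : Perm (Fin 5)}, InC S y → Img S y π → π * π * π = 1 → y * y * y = 1 :=
    fun {y π} hy hyi h3 => by
      have hh := img_mul S (img_mul S hyi hyi) hyi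
      rw [h3] at hh
      exact kernel_trivial S D.pair1 (inC_mul S D.pair1 (inC_mul S D.pair1 hy hy) hy) hh
  have h1 : Commute m c := fix_c S D hi hmi (in1_g S D hm) hai (hcube hm hmi ha3)
  have hmn := inC_mul S D.pair1 hm hn
  have h2 : Commute (m * n) c := fix_c S D hi (img_mul S hmi h) (in1_g S D hmn)
    (by rw [Equiv.Perm.mul_apply, hσi, hai]) (hcube hmn (img_mul S hmi h) hb3)
  have := (h1.inv_left).mul_left h2
  rwa [inv_mul_cancel_left] at this

theorem in2_stab {n : G} {σ : Perm (Fin 5)} (hn : InC2 z g η n) (h : Img S n σ) (hσi : σ i = i)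
    (h3 : σ * σ * σ = 1) : n * c = c * n ∧ n * n * n = 1 := by
  have e : n * n * n = 1 := by
    have hh := img_mul S (img_mul S h h) h
    rw [h3] at hh
    have h' := in2_mul S D (in2_mul S D hn hn) hn
    exact in2_Q S D h' (ker_g S D hh h'.2.1)
  exact ⟨fix_c S D hi h hn.2.1 hσi e, e⟩

/-- A three-element of the first centralizer fixing the point lies in the second one. -/
theorem shared_three {n : G} {σ : Perm (Fin 5)} (hn : InC S n) (h : Img S n σ) (hσi : σ i = i)
    (h3 : σ * σ * σ = 1) : InC2 z g η n := by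
  obtain ⟨s2, hs2, hs2i⟩ := in2_lift S D (img_sign S h)
  by_cases hσ1 : σ = 1
  · subst hσ1
    rw [kernel_trivial S D.pair1 hn h]
    exact ⟨by rw [one_mul, mul_one], by rw [one_mul, mul_one], by rw [one_mul, mul_one]⟩
  suffices e : s2 = n by exact e ▸ hs2
  obtain ⟨hc2, hs23⟩ := in2_stab S D hi hs2 hs2i hσi h3
  have hc1 := in1_stab S D hi hn h hσi
  have hn3 : n * n * n = 1 := by
    have hh := img_mul S (img_mul S h h) h
    rw [h3] at hh
    exact kernel_trivial S D.pair1 (inC_mul S D.pair1 (inC_mul S D.pair1 hn hn) hn) hh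
  obtain ⟨τ, hτ, hτ2, hτ1, ht⟩ := t_img S D.pair1
  have htC : InC S t := ⟨D.pair1.tz, D.pair1.tf, D.pair1.tr⟩
  have htC2 : InC2 z g η t := ⟨D.pair2.tz, D.pair2.tf, D.pair2.tr⟩
  have hτi : τ i = i := by
    have e := (tail_conj S D hi ht).1
    rw [D.tc, mul_inv_cancel_right, hi] at e
    exact (pt_injective e).symm
  obtain ⟨hsq, hcomm⟩ := stab_four i τ hτ hτi hτ2 hτ1 σ (img_sign S h) hσi h3 hσ1
  set t1 := n * t * n⁻¹ with ht1
  set u := s2 * t * s2⁻¹ with hu
  have ht1C : InC S t1 := inC_mul S D.pair1 (inC_mul S D.pair1 hn htC) (inC_inv S D.pair1 hn)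
  have huC : InC2 z g η u := in2_mul S D (in2_mul S D hs2 htC2) (in2_inv S D hs2)
  have ht1i : Img S t1 (σ * τ * σ⁻¹) := img_mul S (img_mul S h ht) (img_inv S h)
  have hui : Img S u (σ * τ * σ⁻¹) := img_mul S (img_mul S hs2i ht) (img_inv S hs2i)
  have htt1 : Commute t t1 := img_inj S D.pair1 (inC_mul S D.pair1 htC ht1C) (inC_mul S D.pair1 ht1C htC)
    (hcomm ▸ img_mul S ht ht1i) (img_mul S ht1i ht)
  have htu : Commute t u := in2_inj S D (in2_mul S D htC2 huC) (in2_mul S D huC htC2)
    (hcomm ▸ img_mul S ht hui) (img_mul S hui ht)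
  have hct : Commute t c := D.tc
  have ht1c : Commute t1 c := ((Commute.mul_left hc1 hct).mul_left (Commute.inv_left hc1))
  have huc : Commute u c := ((Commute.mul_left hc2 hct).mul_left (Commute.inv_left hc2))
  -- the four group `{1, z, c, zc}` is central here
  have central : ∀ {y r : G}, Commute y z → Commute y c → (r = 1 ∨ r = z ∨ r = c ∨ r = z * c) → Commute y r :=
    fun {y r} hyz hyc hr => by
      rcases hr with rfl | rfl | rfl | rfl
      exacts [Commute.one_right y, hyz, hyc, hyz.mul_right hyc]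
  have hr' : t1⁻¹ * u = 1 ∨ t1⁻¹ * u = z ∨ t1⁻¹ * u = c ∨ t1⁻¹ * u = z * c := by
    refine D.qt _ (ker_g S D ?_ ?_) ?_ ?_ ?_
    · have := img_mul S (img_inv S ht1i) hui
      rwa [inv_mul_cancel] at this
    · exact (Commute.mul_left (Commute.inv_left (in1_g S D ht1C)) huC.2.1).eq
    · exact (Commute.mul_left htt1.symm.inv_left htu.symm).eq
    · exact (Commute.mul_left (Commute.inv_left ht1C.2.1) (in2_f S D huC)).eq
    · exact (Commute.mul_left (Commute.inv_left (in1_g S D ht1C)) huC.2.1).eq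
  have e1 : n * t1 * n⁻¹ = t * t1 := img_inj S D.pair1
    (inC_mul S D.pair1 (inC_mul S D.pair1 hn ht1C) (inC_inv S D.pair1 hn)) (inC_mul S D.pair1 htC ht1C)
    (hsq ▸ img_mul S (img_mul S h ht1i) (img_inv S h)) (img_mul S ht ht1i)
  have e2 : s2 * u * s2⁻¹ = t * u := in2_inj S D
    (in2_mul S D (in2_mul S D hs2 huC) (in2_inv S D hs2)) (in2_mul S D htC2 huC)
    (hsq ▸ img_mul S (img_mul S hs2i hui) (img_inv S hs2i)) (img_mul S ht hui)
  have e3 : s2 * t1 * s2⁻¹ = n * t1 * n⁻¹ := by
    have hus : u = t1 * (t1⁻¹ * u) := (mul_inv_cancel_left _ _).symm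
    rw [hus] at e2
    rw [show s2 * (t1 * (t1⁻¹ * u)) * s2⁻¹ = s2 * t1 * s2⁻¹ * (s2 * (t1⁻¹ * u) * s2⁻¹) by group,
      (central hs2.1 hc2 hr').eq, mul_inv_cancel_right, ← mul_assoc t] at e2
    rw [mul_right_cancel e2, e1]
  set r := n⁻¹ * s2 with hr
  have hrt1 : Commute r t1 := by
    show _ * _ = _ * _
    calc n⁻¹ * s2 * t1 = n⁻¹ * (s2 * t1 * s2⁻¹) * s2 := by group
      _ = n⁻¹ * (n * t1 * n⁻¹) * s2 := by rw [e3]
      _ = t1 * (n⁻¹ * s2) := by group
  have hrg : Commute r g := Commute.mul_left (Commute.inv_left (in1_g S D hn)) hs2.2.1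
  have hrf : Commute r f := Commute.mul_left (Commute.inv_left hn.2.1) (in2_f S D hs2)
  have hrz : Commute r z := Commute.mul_left (Commute.inv_left hn.1) hs2.1
  have hrQ : r ∈ Q := ker_g S D (by simpa using img_mul S (img_inv S h) hs2i) hrg.eq
  have hr4 : r = 1 ∨ r = z ∨ r = c ∨ r = z * c := by
    have hn' : n⁻¹ * z = z * n⁻¹ := (Commute.inv_left hn.1).eq
    have hQ' : n⁻¹ * r * n ∈ Q := by
      have := S.hyp.norm n⁻¹ hn' r hrQ
      rwa [inv_inv] at this
    have back : ∀ {v : G}, Commute r (n * v * n⁻¹) → Commute (n⁻¹ * r * n) v := fun {v} hv => by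
      show _ * _ = _ * _
      calc n⁻¹ * r * n * v = n⁻¹ * (r * (n * v * n⁻¹)) * n := by group
        _ = n⁻¹ * (n * v * n⁻¹ * r) * n := by rw [hv.eq]
        _ = v * (n⁻¹ * r * n) := by group
    have h4 := D.qt _ hQ' (back hrt1).eq (back (by rw [hn.2.1, mul_inv_cancel_right]; exact hrf)).eq
      (back (by rw [in1_g S D hn, mul_inv_cancel_right]; exact hrg)).eq
    have e : r = n⁻¹ * r * n := by
      have h5 := central hn.1 hc1 h4
      calc r = n * (n⁻¹ * r * n) * n⁻¹ := by group
        _ = n⁻¹ * r * n := by rw [h5.eq, mul_inv_cancel_right]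
    rw [e]; exact h4
  have hr3 : r * r * r = 1 := by
    have hcn : Commute n r := central hn.1 hc1 hr4
    have e : s2 = n * r := (mul_inv_cancel_left n s2).symm
    rw [e] at hs23
    rw [← hs23]
    calc r * r * r = (n * n * n) * (r * r * r) := by rw [hn3, one_mul]
      _ = _ := by
        have a1 : n * r = r * n := hcn.eq
        have a2 : n * (r * r) = r * r * n := (hcn.mul_right hcn).eq
        calc n * n * n * (r * r * r) = n * n * (n * (r * r)) * r := by group
          _ = n * n * (r * r * n) * r := by rw [a2]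
          _ = n * (n * r) * r * (n * r) := by group
          _ = n * (r * n) * r * (n * r) := by rw [a1]
          _ = _ := by group
  have hr2 : r * r = 1 := by
    rcases hr4 with e | e | e | e <;> rw [e]
    · exact one_mul 1
    · exact S.hyp.extra.sq_one
    · exact D.cc
    · rw [show z * c * (z * c) = z * (c * z) * c by group, cz S D,
        show z * (z * c) * c = (z * z) * (c * c) by group, S.hyp.extra.sq_one, D.cc, one_mul]
  rw [hr2, one_mul] at hr3
  rw [← mul_inv_cancel_left n s2, ← hr, hr3, mul_one]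

theorem shared {n : G} {σ : Perm (Fin 5)} (hn : InC S n) (h : Img S n σ) (hσi : σ i = i) :
    InC2 z g η n := by
  obtain ⟨a, ha, hai, ha3, hb3⟩ := stab_split i σ (img_sign S h) hσi
  obtain ⟨m, hm, hmi⟩ := lift_C S D.pair1 ha
  have h2 := shared_three S D hi (inC_mul S D.pair1 hm hn) (img_mul S hmi h)
    (by rw [Equiv.Perm.mul_apply, hσi, hai]) hb3
  have := in2_mul S D (in2_inv S D (shared_three S D hi hm hmi hai ha3)) h2
  rwa [inv_mul_cancel_left] at this

omit hi in
theorem comm_b {n : G} (hn : InC S n) (h2 : InC2 z g η n) : n * b = b * n := by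
  have hle : closure ({z, f, g, ρ, η} : Set G) ≤ centralizer ({n} : Set G) := by
    rw [closure_le]
    rintro y (rfl | rfl | rfl | rfl | rfl) <;> rw [SetLike.mem_coe, mem_centralizer_singleton_iff]
    exacts [hn.1.symm, hn.2.1.symm, h2.2.1.symm, hn.2.2.symm, h2.2.2.symm]
  exact (mem_centralizer_singleton_iff.1 (hle D.b_word)).symm

theorem pair_vec {d : G} (hd : InC S d) (hdi : Img S d (sigP i)) :
    c * (d * c * d⁻¹) ∈ Q ∧ (K.vec (c * (d * c * d⁻¹))).2 = pt i + pt (sigP i i) := by
  refine ⟨mul_mem D.cQ (S.hyp.norm d hd.1 c D.cQ), ?_⟩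
  rw [K.mul D.cQ (S.hyp.norm d hd.1 c D.cQ), Prod.snd_add, hi, (tail_conj S D hi hdi).1]

theorem involution_shared {d : G} (hd : InC S d) (hdi : Img S d (sigP i)) : InC2 z g η d := by
  obtain ⟨⟨hsig, hsP, heP⟩, ⟨hsig2, hsigi, -⟩, ⟨hs3, hsi, hinv⟩, ⟨he2, -, hei, -⟩, ⟨-, hord⟩⟩ := choice_facts i
  obtain ⟨d2, hd2, hd2i⟩ := in2_lift S D hsig
  obtain ⟨s, hs, hsI⟩ := lift_C S D.pair1 hsP
  have hs2 := shared S D hi hs hsI hsi
  have hdd : d * d = 1 := kernel_trivial S D.pair1 (inC_mul S D.pair1 hd hd) (hsig2 ▸ img_mul S hdi hdi)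
  have hdinv : d⁻¹ = d := inv_eq_of_mul_eq_one_right hdd
  have hd2d : d2 * d2 = 1 := by
    have h' := in2_mul S D hd2 hd2
    exact in2_Q S D h' (ker_g S D (hsig2 ▸ img_mul S hd2i hd2i) h'.2.1)
  have e1 : d * s * d = s⁻¹ := img_inj S D.pair1 (inC_mul S D.pair1 (inC_mul S D.pair1 hd hs) hd)
    (inC_inv S D.pair1 hs) (hinv ▸ img_mul S (img_mul S hdi hsI) hdi) (img_inv S hsI)
  have e2 : d2 * s * d2 = s⁻¹ := in2_inj S D (in2_mul S D (in2_mul S D hd2 hs2) hd2)
    (in2_inv S D hs2) (hinv ▸ img_mul S (img_mul S hd2i hsI) hd2i) (img_inv S hsI)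
  set r := d2 * d with hr
  have hrI : Img S r 1 := hsig2 ▸ img_mul S hd2i hdi
  have hrg : Commute r g := Commute.mul_left hd2.2.1 (in1_g S D hd)
  have hrQ : r ∈ Q := ker_g S D hrI hrg.eq
  have hrs : s * r * s⁻¹ = r := by
    rw [mul_inv_eq_iff_eq_mul]
    calc s * r = d2 * (d2 * s * d2) * d := by
          rw [hr, show d2 * (d2 * s * d2) * d = d2 * d2 * s * (d2 * d) by group, hd2d, one_mul]
      _ = d2 * (d * s * d) * d := by rw [e2, e1]
      _ = d2 * d * s * (d * d) := by group
      _ = r * s := by rw [hdd, mul_one]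
  have hrd : d * r * d⁻¹ = r⁻¹ := by
    rw [hr, mul_inv_rev, hdinv, inv_eq_of_mul_eq_one_right hd2d, show d * (d2 * d) * d = d * d2 * (d * d) by group,
      hdd, mul_one]
  have h12 := (S.comm_x_iff hrQ).1 hrI.2.1
  have hfix : ∀ {y : G} {π : Perm (Fin 5)}, Img S y π → K.vec (y * r * y⁻¹) = K.vec r →
      pm π (K.vec r).2 = (K.vec r).2 := fun {y π} hy e => by
    rw [← img_res S hy, ← K.res_perp S.hyp hy.1 (act_x0 S hy.1 hy.2.1) _ h12, K.act_vec S.hyp hy.1 hrQ, e]
  have key : ∀ {m : G}, m ∈ Q → (K.vec m).2 = 0 → Commute m f → Commute m g → m = 1 ∨ m = z := by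
    intro m hm h0 hmf hmg
    obtain ⟨p, q, rfl⟩ := S.exists_el hm ((S.comm_x_iff hm).1 hmf.eq) h0
    rcases zcases q with rfl | rfl
    · rcases zcases p with rfl | rfl <;> simp [Base.el]
    · exfalso
      refine D.pair1.fg ?_
      rcases zcases p with rfl | rfl
      · simpa [Base.el, Commute, SemiconjBy] using hmg.eq
      · have hzg : Commute z g := (S.hyp.extra.comm_z D.pair1.gQ).symm
        have h' : Commute (z * (z * f)) g := hzg.mul_left (by simpa [Base.el] using hmg)
        rw [← mul_assoc, S.hyp.extra.sq_one, one_mul] at h'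
        exact h'.eq
  have hd2eq : d2 = r * d := by rw [hr, mul_assoc, hdd, mul_one]
  obtain ⟨κ, hκ, hκI⟩ := lift_C S D.pair1 heP
  have hκ2 := shared S D hi hκ hκI hei
  have hκc := in1_stab S D hi hκ hκI hei
  have hκd : κ * d * (κ * d) * (κ * d) = 1 := by
    have h' := inC_mul S D.pair1 hκ hd
    exact kernel_trivial S D.pair1 (inC_mul S D.pair1 (inC_mul S D.pair1 h' h') h')
      (hord ▸ img_mul S (img_mul S (img_mul S hκI hdi) (img_mul S hκI hdi)) (img_mul S hκI hdi))
  have hκd2 : κ * d2 * (κ * d2) * (κ * d2) = 1 := by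
    have h' := in2_mul S D hκ2 hd2
    have h'' := in2_mul S D (in2_mul S D h' h') h'
    exact in2_Q S D h'' (ker_g S D
      (hord ▸ img_mul S (img_mul S (img_mul S hκI hd2i) (img_mul S hκI hd2i)) (img_mul S hκI hd2i)) h''.2.1)
  -- `d2` differs by a central element from `d` or from `c d c`
  have sign_z : ∀ {y : G}, Commute y z → κ * y * (κ * y) * (κ * y) = 1 → d2 ≠ z * y := by
    intro y hy h e
    have hk : Commute z (κ * y) := ((show Commute κ z from hκ.1).mul_left hy).symm
    rw [e, show κ * (z * y) = z * (κ * y) by rw [← mul_assoc, hκ.1, mul_assoc]] at hκd2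
    have e4 : z * (κ * y) * (z * (κ * y)) * (z * (κ * y)) = z * z * z * (κ * y * (κ * y) * (κ * y)) := by
      calc z * (κ * y) * (z * (κ * y)) * (z * (κ * y))
          = z * ((κ * y) * z) * (κ * y) * (z * (κ * y)) := by group
        _ = z * z * (κ * y * (κ * y) * z) * (κ * y) := by rw [← hk.eq]; group
        _ = z * z * (z * (κ * y * (κ * y))) * (κ * y) := by rw [(hk.mul_right hk).eq]
        _ = _ := by group
    rw [e4, h, mul_one, S.hyp.extra.sq_one, one_mul] at hκd2
    exact S.hyp.extra.ne_one hκd2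
  have hdz : Commute d z := hd.1
  rcases fixed_both i _ (hfix hdi (by rw [hrd, K.vec_inv hrQ])) (hfix hsI (by rw [hrs])) with hw | hw
  · rcases key hrQ hw hrI.2.1 hrg with e | e
    · rw [e, one_mul] at hd2eq
      exact hd2eq ▸ hd2
    · rw [e] at hd2eq
      exact absurd hd2eq (sign_z hdz hκd)
  · exfalso
    obtain ⟨hpQ, hpw⟩ := pair_vec S D hi hd hdi
    set p := c * (d * c * d⁻¹) with hp
    have hpf : Commute p f := Commute.mul_left D.cf
      ((Commute.mul_left hd.2.1 D.cf).mul_left (Commute.inv_left hd.2.1))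
    have hpg : Commute p g := Commute.mul_left D.cg
      ((Commute.mul_left (in1_g S D hd) D.cg).mul_left (Commute.inv_left (in1_g S D hd)))
    have hm : r * p⁻¹ = 1 ∨ r * p⁻¹ = z := key (mul_mem hrQ (inv_mem hpQ))
      (by rw [K.mul hrQ (inv_mem hpQ), K.vec_inv hpQ, Prod.snd_add, hpw, hw, addW])
      (Commute.mul_left hrI.2.1 hpf.inv_left) (Commute.mul_left hrg hpg.inv_left)
    have hcinv : c⁻¹ = c := inv_eq_of_mul_eq_one_right D.cc
    have hpd : p * d = c * d * c := by
      rw [hp, hdinv, show c * (d * c * d) * d = c * d * c * (d * d) by group, hdd, mul_one]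
    have hκy : κ * (c * d * c) * (κ * (c * d * c)) * (κ * (c * d * c)) = 1 := by
      have hy : κ * (c * d * c) = c * (κ * d) * c := by
        rw [show κ * (c * d * c) = (κ * c) * d * c by group, hκc]; group
      rw [hy, show c * (κ * d) * c * (c * (κ * d) * c) * (c * (κ * d) * c) =
        c * (κ * d) * (c * c) * (κ * d) * (c * c) * (κ * d) * c by group, D.cc, mul_one, mul_one,
        show c * (κ * d) * (κ * d) * (κ * d) * c = c * (κ * d * (κ * d) * (κ * d)) * c by group, hκd, mul_one, D.cc]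
    have hczc : Commute c z := cz S D
    rcases hm with e | e
    · -- the twisted centralizer would centralize an element of order seven
      rw [mul_inv_eq_one.1 e, hpd] at hd2eq
      subst hd2eq
      have hdc : Commute d (c * η * c) := by
        have h' : c * d * c * η = η * (c * d * c) := hd2.2.2
        show _ * _ = _ * _
        calc d * (c * η * c) = c * (c * d * c * η) * c := by
              rw [show c * (c * d * c * η) * c = c * c * d * c * η * c by group, D.cc, one_mul]; group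
          _ = c * (η * (c * d * c)) * c := by rw [h']
          _ = c * η * c * (d * (c * c)) := by group
          _ = _ := by rw [D.cc, mul_one]
      obtain ⟨u, hu, hu7⟩ := D.seven
      have cen : ∀ {y : G}, InC S y → Commute y (c * η * c) → Commute y u := by
        intro y hy hyc
        have hle : closure ({z, f, g, ρ, c * η * c} : Set G) ≤ centralizer ({y} : Set G) := by
          rw [closure_le]
          rintro v (rfl | rfl | rfl | rfl | rfl) <;> rw [SetLike.mem_coe, mem_centralizer_singleton_iff]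
          exacts [hy.1.symm, hy.2.1.symm, (in1_g S D hy).symm, hy.2.2.symm, hyc.symm]
        exact (mem_centralizer_singleton_iff.1 (hle hu)).symm
      obtain ⟨k, hk, hki, hne, h5⟩ := five_choice i
      obtain ⟨m, hm, hmI⟩ := lift_C S D.pair1 hk
      have hmc : Commute m c := in1_stab S D hi hm hmI hki
      have hmη : Commute m η := (shared S D hi hm hmI hki).2.2
      have hmd := (cen hm ((hmc.mul_right hmη).mul_right hmc)).mul_left (cen hd hdc)
      have h5' : (m * d) ^ 5 = 1 := by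
        have hI := inC_mul S D.pair1 hm hd
        have hI5 := inC_mul S D.pair1 (inC_mul S D.pair1 (inC_mul S D.pair1 (inC_mul S D.pair1 hI hI) hI) hI) hI
        have i1 := img_mul S hmI hdi
        have i5 := img_mul S (img_mul S (img_mul S (img_mul S i1 i1) i1) i1) i1
        rw [h5] at i5
        simpa [pow_succ] using kernel_trivial S D.pair1 hI5 i5
      have h1 := no_five S.hyp hu7 hmd h5'
      have hii := img_mul S hmI hdi
      rw [h1] at hii
      exact hne (img_unique S hii (img_one S))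
    · rw [mul_inv_eq_iff_eq_mul.1 e, mul_assoc, hpd] at hd2eq
      exact sign_z ((hczc.mul_left hdz).mul_left hczc) hκy hd2eq

end Link

/-- The generators `d` and `e`. -/
theorem FrameData.main {b c f g ρ η t : G} (D : FrameData z Q b c f g ρ η t) (H : Hyp z Q) :
    ∃ d e : G, d * d = 1 ∧ d * z = z * d ∧ d * b = b * d ∧ d * f = f * d ∧ d * g = g * d ∧
      (c * d) ^ 4 = z ∧ e * e = 1 ∧ e ≠ 1 ∧ e * z = z * e ∧ e * b = b * e ∧ e * c = c * e ∧ e * f = f * e ∧
      e * g = g * e ∧ (d * e) ^ 3 = 1 ∧ ¬ (d * e * d) * c = c * (d * e * d) ∧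
      ∀ w, w * z = z * w → w * f = f * w → w * ρ = ρ * w → w * c = c * w → w ^ 3 = 1 → w ≠ 1 →
        (w * e) ^ 3 = 1 := by
  obtain ⟨K, S⟩ := D.pair1.exists_base H
  obtain ⟨i, hi⟩ := exists_point S D
  obtain ⟨⟨hsig, -, heP⟩, ⟨hsig2, hsigi, -⟩, -, ⟨he2, he1, hei, hem⟩, ⟨hde, -⟩⟩ := choice_facts i
  obtain ⟨d, hd, hdi⟩ := lift_C S D.pair1 hsig
  obtain ⟨e, he, heI⟩ := lift_C S D.pair1 heP
  have hd2 := involution_shared S D hi hd hdi
  have he2' := shared S D hi he heI hei
  have hdd : d * d = 1 := kernel_trivial S D.pair1 (inC_mul S D.pair1 hd hd) (hsig2 ▸ img_mul S hdi hdi)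
  have hee : e * e = 1 := kernel_trivial S D.pair1 (inC_mul S D.pair1 he he) (he2 ▸ img_mul S heI heI)
  have hec := in1_stab S D hi he heI hei
  have hdinv : d⁻¹ = d := inv_eq_of_mul_eq_one_right hdd
  refine ⟨d, e, hdd, hd.1, comm_b S D hd hd2, hd.2.1, in1_g S D hd, ?_, hee, fun h => ?_, he.1,
    comm_b S D he he2', hec, he.2.1, in1_g S D he, ?_, fun h => ?_, ?_⟩
  · have hc'Q := S.hyp.norm d hd.1 c D.cQ
    obtain ⟨e1, e2⟩ := tail_conj S D hi hdi
    have hBne : ¬ B (K.vec c) (K.vec (d * c * d⁻¹)) = 0 := by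
      simp only [B, (S.comm_x_iff D.cQ).1 D.cf, e2, hi, e1, mul_zero, zero_mul, add_zero, zero_add,
        pt_pair i _ (Ne.symm hsigi)]
      decide
    have e3 := K.conj D.cQ hc'Q
    rw [if_neg hBne] at e3
    set c' := d * c * d⁻¹ with hc'
    have hc'2 : c' * c' = 1 := conj_sq_one D.cc
    rw [inv_eq_of_mul_eq_one_right hc'2] at e3
    calc (c * d) ^ 4 = c * (d * c * d) * (c * (d * c * d)) := by rw [pow_succ, pow_succ, pow_succ, pow_one]; group
      _ = c * (c' * c * c') := by
        rw [hc', hdinv]; group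
      _ = c * (z * c) := by rw [e3]
      _ = z := by rw [← mul_assoc, cz S D, mul_assoc, D.cc, mul_one]
  · rw [h] at heI
    exact he1 (img_unique S heI (img_one S))
  · have hI := inC_mul S D.pair1 hd he
    have i1 := img_mul S hdi heI
    have i3 := img_mul S (img_mul S i1 i1) i1
    rw [hde] at i3
    simpa [pow_succ] using kernel_trivial S D.pair1 (inC_mul S D.pair1 (inC_mul S D.pair1 hI hI) hI) i3
  · have hI := img_mul S (img_mul S hdi heI) hdi
    have e1 := (tail_conj S D hi hI).1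
    rw [h, mul_inv_cancel_right, hi] at e1
    have e2 : sigP i * eP i * sigP i = sigP i * eP i * (sigP i)⁻¹ := by rw [inv_eq_of_mul_eq_one_right hsig2]
    rw [e2] at e1
    refine hem ?_
    have e3 := congrArg (sigP i) (pt_injective e1)
    simp only [Equiv.Perm.mul_apply] at e3
    rw [← Equiv.Perm.mul_apply (sigP i) (sigP i), hsig2, Equiv.Perm.one_apply,
      inv_eq_of_mul_eq_one_right hsig2] at e3
    exact e3.symm
  · intro w hwz hwf hwr hwc hw3 hw1
    obtain ⟨σ, hσ, hσI⟩ := img_exists S hwz hwf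
    have hσi : σ i = i := by
      have e1 := (tail_conj S D hi hσI).1
      rw [hwc, mul_inv_cancel_right, hi] at e1
      exact (pt_injective e1).symm
    have hwC : InC S w := ⟨hwz, hwf, hwr⟩
    have h3 : σ * σ * σ = 1 := by
      have := img_mul S (img_mul S hσI hσI) hσI
      rw [show w * w * w = 1 by rw [← hw3]; simp [pow_succ]] at this
      exact img_unique S this (img_one S)
    have hσ1 : σ ≠ 1 := fun h => hw1 (kernel_trivial S D.pair1 hwC (h ▸ hσI))
    have hI := inC_mul S D.pair1 hwC he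
    have i1 := img_mul S hσI heI
    have i3 := img_mul S (img_mul S i1 i1) i1
    rw [stab_braid i σ (eP i) hσ hσi h3 hσ1 heP hei he2 he1] at i3
    simpa [pow_succ] using kernel_trivial S D.pair1 (inC_mul S D.pair1 (inC_mul S D.pair1 hI hI) hI) i3

end CfsgLib.SuzType.Uniq
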