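import Mathlib
import Cfsg.Agent.Lib.ThreeTrans.PolarTwins.Field4

/-!
Three-by-three matrices over the field with four elements, computably, and their values under a homomorphism
out of `PSL₃` over any field with four elements.
-/

set_option autoImplicit false
set_option maxHeartbeats 1000000
set_option linter.style.longLine false
set_option linter.unusedSectionVars false

namespace CfsgLib.SuzType.Uniq

open CfsgLib.ThreeTrans.PolarTwins

/-- The element `s + t θ`. -/
abbrev E4 : Type := ZMod 2 × ZMod 2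

namespace E4

/-- multiplication with `θ² = θ + 1` -/
def mul (x y : E4) : E4 := (x.1 * y.1 + x.2 * y.2, x.1 * y.2 + x.2 * y.1 + x.2 * y.2)

/-- unit -/
def one : E4 := (1, 0)

end E4

/-- A matrix. -/
structure M3 where
  a00 : E4
  a01 : E4
  a02 : E4
  a10 : E4
  a11 : E4
  a12 : E4
  a20 : E4
  a21 : E4
  a22 : E4
  deriving DecidableEq

namespace M3

open E4 (mul one)

/-- product -/
def mm (A B : M3) : M3 :=
  ⟨mul A.a00 B.a00 + mul A.a01 B.a10 + mul A.a02 B.a20, mul A.a00 B.a01 + mul A.a01 B.a11 + mul A.a02 B.a21,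
    mul A.a00 B.a02 + mul A.a01 B.a12 + mul A.a02 B.a22,
    mul A.a10 B.a00 + mul A.a11 B.a10 + mul A.a12 B.a20, mul A.a10 B.a01 + mul A.a11 B.a11 + mul A.a12 B.a21,
    mul A.a10 B.a02 + mul A.a11 B.a12 + mul A.a12 B.a22,
    mul A.a20 B.a00 + mul A.a21 B.a10 + mul A.a22 B.a20, mul A.a20 B.a01 + mul A.a21 B.a11 + mul A.a22 B.a21,
    mul A.a20 B.a02 + mul A.a21 B.a12 + mul A.a22 B.a22⟩

/-- determinant -/
def det (A : M3) : E4 :=
  mul (mul A.a00 A.a11) A.a22 + mul (mul A.a00 A.a12) A.a21 + mul (mul A.a01 A.a10) A.a22 +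
    mul (mul A.a01 A.a12) A.a20 + mul (mul A.a02 A.a10) A.a21 + mul (mul A.a02 A.a11) A.a20

/-- scalar matrix -/
def scal (k : E4) : M3 := ⟨k, 0, 0, 0, k, 0, 0, 0, k⟩

/-- unitriangular matrix -/
def uni (v u w : E4) : M3 := ⟨one, v, w, 0, one, u, 0, 0, one⟩

/-- product of a list -/
def prodL : List M3 → M3
  | [] => scal one
  | A :: l => mm A (prodL l)

variable {K : Type} [Field K] [Fintype K] (Φ : F4 K)

/-- the embedding of the scalars -/
noncomputable def toF (x : E4) : K := F4.cst x.1 + F4.cst x.2 * Φ.θ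

theorem toF_add (x y : E4) : toF Φ (x + y) = toF Φ x + toF Φ y := by
  simp only [toF, Prod.fst_add, Prod.snd_add, Φ.cst_add]; ring

theorem toF_mul (x y : E4) : toF Φ (mul x y) = toF Φ x * toF Φ y := by
  simp only [toF, mul, Φ.cst_add, F4.cst_mul]
  linear_combination (-(F4.cst x.2 * F4.cst y.2) : K) * Φ.root

theorem toF_one : toF Φ one = 1 := by simp [toF, one]

theorem toF_zero : toF Φ 0 = 0 := by simp [toF]

theorem add_self_E4 : ∀ y : E4, y + y = 0 := by decide

theorem toF_injective : Function.Injective (toF Φ) := by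
  have h0 : ∀ x : E4, toF Φ x = 0 → x = 0 := by
    intro x h
    have hθ : Φ.θ ≠ 0 := fun e => by simpa [e] using Φ.root
    have hθ1 : Φ.θ ≠ 1 := fun e => by
      have h2 := Φ.root
      rw [e, one_mul, ← two_mul (1 : K), mul_one, Φ.two_eq] at h2
      exact one_ne_zero h2
    obtain ⟨s, t⟩ := x
    rcases F4.bit s with rfl | rfl <;> rcases F4.bit t with rfl | rfl <;> simp [toF] at h ⊢
    · exact hθ h
    · refine hθ1 ?_
      have h' : 1 + Φ.θ = 1 + 1 := by rw [h, Φ.add_self]
      exact add_left_cancel h'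
  intro x y h
  have := h0 (x + y) (by rw [toF_add, h, Φ.add_self])
  have hy : y + y = 0 := add_self_E4 y
  calc x = x + y + y := by rw [add_assoc, hy, add_zero]
    _ = y := by rw [this, zero_add]

/-- as a matrix -/
noncomputable def toMat (A : M3) : Matrix (Fin 3) (Fin 3) K :=
  !![toF Φ A.a00, toF Φ A.a01, toF Φ A.a02; toF Φ A.a10, toF Φ A.a11, toF Φ A.a12;
    toF Φ A.a20, toF Φ A.a21, toF Φ A.a22]

theorem toMat_mm (A B : M3) : toMat Φ (mm A B) = toMat Φ A * toMat Φ B := by
  ext i j
  fin_cases i <;> fin_cases j <;>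
    simp [toMat, mm, Matrix.mul_apply, Fin.sum_univ_three, toF_add, toF_mul]

theorem toMat_det (A : M3) : (toMat Φ A).det = toF Φ (det A) := by
  rw [Matrix.det_fin_three]
  simp only [toMat, det, toF_add, toF_mul]
  have := Φ.char
  simp [CharTwo.sub_eq_add]

include Φ in
theorem det_mm {A B : M3} (hA : det A = one) (hB : det B = one) : det (mm A B) = one := by
  apply toF_injective Φ
  rw [← toMat_det, toMat_mm, Matrix.det_mul, toMat_det, toMat_det, hA, hB, toF_one, mul_one]

theorem toMat_scal (k : E4) : toMat Φ (scal k) = Matrix.scalar (Fin 3) (toF Φ k) := by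
  ext i j
  fin_cases i <;> fin_cases j <;> simp [toMat, scal, toF_zero]

/-- in `SL₃` -/
noncomputable def toSL (A : M3) (h : det A = one) : Matrix.SpecialLinearGroup (Fin 3) K :=
  ⟨toMat Φ A, by rw [toMat_det, h, toF_one]⟩

variable {G : Type*} [Group G] (φ : Matrix.ProjectiveSpecialLinearGroup (Fin 3) K →* G)

/-- the value -/
noncomputable def val (A : M3) : G :=
  if h : det A = one then φ (QuotientGroup.mk (toSL Φ A h)) else 1

theorem val_mm {A B : M3} (hA : det A = one) (hB : det B = one) :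
    val Φ φ (mm A B) = val Φ φ A * val Φ φ B := by
  rw [val, val, val, dif_pos hA, dif_pos hB, dif_pos (det_mm Φ hA hB), ← map_mul, ← QuotientGroup.mk_mul]
  congr 2
  exact Subtype.ext (toMat_mm Φ A B)

theorem val_scal (k : E4) : val Φ φ (scal k) = 1 := by
  rw [val]
  split_ifs with h
  · rw [(QuotientGroup.eq_one_iff _).2 ?_, map_one]
    rw [Matrix.SpecialLinearGroup.mem_center_iff]
    refine ⟨toF Φ k, ?_, (toMat_scal Φ k).symm⟩
    have := congrArg (toF Φ) h
    rw [← toMat_det, toMat_scal, toF_one, Matrix.scalar_apply, Matrix.det_diagonal, Fin.prod_univ_three] at this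
    rw [Fintype.card_fin]
    linear_combination this
  · rfl

theorem val_prodL : ∀ (l : List M3), (∀ A ∈ l, det A = one) →
    det (prodL l) = one ∧ val Φ φ (prodL l) = (l.map (val Φ φ)).prod
  | [], _ => ⟨by decide, val_scal Φ φ one⟩
  | A :: l, h => by
    obtain ⟨h1, h2⟩ := val_prodL l fun B hB => h B (List.mem_cons_of_mem _ hB)
    have hA := h A List.mem_cons_self
    exact ⟨det_mm Φ hA h1, by rw [prodL, val_mm Φ φ hA h1, h2, List.map_cons, List.prod_cons]⟩

variable (hφ : Function.Injective φ)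
include hφ

theorem central_of_val {A : M3} (hA : det A = one) (h : val Φ φ A = 1) {B : M3} (hB : det B = one) :
    mm A B = mm B A := by
  rw [val, dif_pos hA, map_eq_one_iff φ hφ, QuotientGroup.eq_one_iff, Subgroup.mem_center_iff] at h
  have e := congrArg Subtype.val (h (toSL Φ B hB))
  have e' : toMat Φ (mm A B) = toMat Φ (mm B A) := by
    rw [toMat_mm, toMat_mm]; exact e.symm
  have inj : ∀ {X Y : M3}, toMat Φ X = toMat Φ Y → X = Y := fun {X Y} e => by
    obtain ⟨x0, x1, x2, x3, x4, x5, x6, x7, x8⟩ := X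
    obtain ⟨y0, y1, y2, y3, y4, y5, y6, y7, y8⟩ := Y
    simp only [M3.mk.injEq]
    exact ⟨toF_injective Φ (congrFun (congrFun e 0) 0), toF_injective Φ (congrFun (congrFun e 0) 1),
      toF_injective Φ (congrFun (congrFun e 0) 2), toF_injective Φ (congrFun (congrFun e 1) 0),
      toF_injective Φ (congrFun (congrFun e 1) 1), toF_injective Φ (congrFun (congrFun e 1) 2),
      toF_injective Φ (congrFun (congrFun e 2) 0), toF_injective Φ (congrFun (congrFun e 2) 1),
      toF_injective Φ (congrFun (congrFun e 2) 2)⟩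
  exact inj e'

end M3

end CfsgLib.SuzType.Uniq
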