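import Mathlib
import Cfsg.Agent.Lib.SuzType.Uniq.MatFour

/-!
Six choices of generators of `PSL₃(4)` satisfying the relations of the presentation of the Suzuki group.
-/

set_option autoImplicit false
set_option maxHeartbeats 1000000
set_option maxRecDepth 8000
set_option synthInstance.maxSize 8000
set_option synthInstance.maxHeartbeats 1000000
set_option linter.style.longLine false

namespace CfsgLib.SuzType.Uniq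

open M3

/-- the central involution -/
def mA : M3 := ⟨(1, 0), (0, 0), (1, 0), (0, 0), (1, 0), (0, 0), (0, 0), (0, 0), (1, 0)⟩
/-- the second generator -/
def mB : M3 := ⟨(0, 0), (0, 0), (1, 0), (0, 0), (0, 1), (0, 0), (1, 1), (0, 0), (0, 0)⟩
/-- the third generator -/
def mC : M3 := ⟨(1, 0), (0, 0), (1, 1), (0, 0), (1, 0), (0, 0), (0, 0), (0, 0), (1, 0)⟩
/-- variable generator -/
def mF : Fin 6 → M3 := ![⟨(1, 0), (0, 0), (1, 1), (0, 0), (1, 0), (1, 0), (0, 0), (0, 0), (1, 0)⟩,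
  ⟨(1, 0), (0, 0), (1, 1), (0, 0), (1, 0), (0, 1), (0, 0), (0, 0), (1, 0)⟩,
  ⟨(1, 0), (0, 0), (1, 1), (0, 0), (1, 0), (1, 1), (0, 0), (0, 0), (1, 0)⟩,
  ⟨(1, 0), (1, 0), (1, 1), (0, 0), (1, 0), (0, 0), (0, 0), (0, 0), (1, 0)⟩,
  ⟨(1, 0), (0, 1), (1, 1), (0, 0), (1, 0), (0, 0), (0, 0), (0, 0), (1, 0)⟩,
  ⟨(1, 0), (1, 1), (1, 1), (0, 0), (1, 0), (0, 0), (0, 0), (0, 0), (1, 0)⟩]
/-- variable generator -/
def mG : Fin 6 → M3 := ![⟨(1, 0), (1, 0), (1, 1), (0, 0), (1, 0), (0, 0), (0, 0), (0, 0), (1, 0)⟩,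
  ⟨(1, 0), (1, 1), (1, 1), (0, 0), (1, 0), (0, 0), (0, 0), (0, 0), (1, 0)⟩,
  ⟨(1, 0), (0, 1), (1, 1), (0, 0), (1, 0), (0, 0), (0, 0), (0, 0), (1, 0)⟩,
  ⟨(1, 0), (0, 0), (1, 1), (0, 0), (1, 0), (1, 0), (0, 0), (0, 0), (1, 0)⟩,
  ⟨(1, 0), (0, 0), (1, 1), (0, 0), (1, 0), (1, 1), (0, 0), (0, 0), (1, 0)⟩,
  ⟨(1, 0), (0, 0), (1, 1), (0, 0), (1, 0), (0, 1), (0, 0), (0, 0), (1, 0)⟩]

/-- the letters -/
def gen (k : Fin 6) : ℕ → M3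
  | 0 => mA
  | 1 => mB
  | 2 => mC
  | 3 => mF k
  | 4 => mG k
  | _ => scal E4.one

/-- words with scalar value -/
def relW : List (List ℕ) := [
  [0, 0],
  [1, 1],
  [2, 2],
  [3, 3],
  [4, 4],
  [0, 1, 0, 1, 0, 1, 0, 1, 0, 1],
  [1, 2, 1, 2, 1, 2],
  [1, 3, 1, 3, 1, 3],
  [1, 4, 1, 4, 1, 4],
  [3, 4, 3, 4, 3, 4, 3, 4],
  [0, 2, 0, 2],
  [0, 3, 0, 3],
  [0, 4, 0, 4],
  [2, 3, 2, 3],
  [2, 4, 2, 4],
  [0, 1, 2, 3, 0, 1, 2, 3, 0, 1, 2, 3, 0, 1, 2, 3, 0, 1, 2, 3],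
  [0, 1, 2, 4, 0, 1, 2, 4, 0, 1, 2, 4, 0, 1, 2, 4, 0, 1, 2, 4],
  [1, 3, 4, 1, 3, 4, 1, 3, 4, 1, 3, 4, 1, 3, 4],
  [0, 1, 0, 1, 0, 2, 1, 0, 1, 0, 2, 1, 0, 1, 2],
  [0, 3, 4, 3, 4],
  [4, 0, 4, 0],
  [1, 0, 3, 1, 0, 1, 1, 0, 3, 1, 0, 1, 1, 0, 3, 1, 0, 1],
  [1, 0, 3, 1, 0, 1, 0, 1, 0, 1, 3, 0, 1, 3],
  [1, 0, 3, 1, 0, 1, 3, 1, 0, 1, 3, 0, 1, 3, 0],
  [4, 1, 0, 3, 1, 0, 1, 4, 1, 0, 3, 1, 0, 1, 3],
  [1, 0, 4, 1, 0, 1, 1, 0, 4, 1, 0, 1, 1, 0, 4, 1, 0, 1],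
  [1, 0, 4, 1, 0, 1, 0, 1, 0, 1, 4, 0, 1, 4],
  [1, 0, 4, 1, 0, 1, 4, 1, 0, 1, 4, 0, 1, 4, 0],
  [3, 1, 0, 4, 1, 0, 1, 3, 1, 0, 4, 1, 0, 1, 4],
  [1, 1, 0, 1, 4, 0, 1, 1, 0, 1, 3, 0, 1, 0, 1, 0, 4, 1, 0, 1, 1, 0, 3, 1, 0, 1],
  [1, 0, 1, 3, 0, 1, 2, 1, 0, 4, 1, 0, 1, 2, 1, 0, 1, 3, 0, 1, 2, 1, 0, 4, 1, 0, 1, 2, 1, 0, 1, 3, 0, 1, 2, 1, 0, 4, 1, 0, 1, 2, 1, 0, 1, 3, 0, 1, 2, 1, 0, 4, 1, 0, 1, 2, 1, 0, 1, 3, 0, 1, 2, 1, 0, 4, 1, 0, 1, 2, 1, 0, 1, 3, 0, 1, 2, 1, 0, 4, 1, 0, 1, 2, 1, 0, 1, 3, 0, 1, 2, 1, 0, 4, 1, 0, 1, 2]]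

/-- words with non-central value -/
def neW : List (List ℕ) := [[0], [3, 4, 3, 4], [2], [2, 0], [2, 3], [2, 0, 3], [1, 0, 1, 3, 0, 1, 2, 1, 0, 4, 1, 0, 1, 2], [3], [4]]

/-- a test matrix -/
def mP : M3 := ⟨0, E4.one, 0, 0, 0, E4.one, E4.one, 0, 0⟩

theorem gen_det : ∀ k : Fin 6, ∀ x < 5, det (gen k x) = E4.one := by decide +kernel

theorem test_det : det mP = E4.one ∧ det mA = E4.one ∧ det mB = E4.one := by decide +kernel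

theorem rel_ok : ∀ k : Fin 6, ∀ w ∈ relW, ∃ s : E4, prodL (w.map (gen k)) = scal s := by decide +kernel

theorem rel_letters : ∀ w ∈ relW, ∀ x ∈ w, x < 5 := by decide +kernel

theorem ne_letters : ∀ w ∈ neW, ∀ x ∈ w, x < 5 := by decide +kernel

theorem ne_ok : ∀ k : Fin 6, ∀ w ∈ neW, mm (prodL (w.map (gen k))) mP ≠ mm mP (prodL (w.map (gen k))) ∨
    mm (prodL (w.map (gen k))) mB ≠ mm mB (prodL (w.map (gen k))) := by decide +kernel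

/-- the central triples -/
def ZU : List M3 := [uni 0 0 0, uni 0 0 (1, 0), uni 0 0 (0, 1), uni 0 0 (1, 1)]

theorem uni_mm : ∀ v u w v' u' w' : E4,
    mm (uni v u w) (uni v' u' w') = uni (v + v') (u + u') (w + w' + E4.mul v u') := by decide +kernel

theorem uni_det : ∀ v u w : E4, det (uni v u w) = E4.one := by decide +kernel

theorem uni_faithful : ∀ v u w : E4, mm (uni v u w) mP = mm mP (uni v u w) →
    v = 0 ∧ u = 0 ∧ w = 0 := by decide +kernel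

theorem zu_central : ∀ k ∈ ZU, ∀ v u w : E4, mm k (uni v u w) = mm (uni v u w) k := by decide +kernel

theorem special : mA = uni 0 0 (1, 0) ∧ mC ∈ ZU ∧
    (∀ k : Fin 6, (∃ v u w, mF k = uni v u w) ∧ ∃ v u w, mG k = uni v u w) := by decide +kernel

/-- The variants cover all admissible pairs up to the centre. -/
theorem variants : ∀ v u w v' u' w' : E4,
    mm (uni v u w) (uni v u w) = scal E4.one → mm (uni v' u' w') (uni v' u' w') = scal E4.one →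
    mm (mm (uni v u w) (uni v' u' w')) (mm (uni v u w) (uni v' u' w')) = mA →
    ∃ k : Fin 6, mm (mF k) (uni v u w) ∈ ZU ∧ mm (mG k) (uni v' u' w') ∈ ZU := by decide +kernel

end CfsgLib.SuzType.Uniq
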