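import Mathlib
import Cfsg.Agent.Lib.CIT.FourRecog
import Cfsg.Agent.Lib.SuzType.TypLayer
import Cfsg.Agent.Lib.SuzType.Uniq.Variants
import Cfsg.Agent.Lib.SuzType.Uniq.Link

/-!
Generators of the layer of a centralizer of an involution, placed with `f, g` in `Q`.
-/

set_option autoImplicit false
set_option maxHeartbeats 1000000
set_option synthInstance.maxSize 8000
set_option synthInstance.maxHeartbeats 1000000
set_option maxRecDepth 8000
set_option linter.style.longLine false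
set_option linter.unusedSectionVars false

namespace CfsgLib.SuzType

open Subgroup CfsgLib.CIT CfsgLib.ThreeTrans.PolarTwins

theorem CP_axis : ∀ w : W, CP ((0, w) : W × W) → DP w := by decide +kernel

theorem DP_perp : ∀ w a b : W, DP w → DP a → DP b → BW a b = 1 → BW w a = 0 → BW w b = 0 → w = 0 := by
  decide +kernel

theorem DP_frame : ∃ a b : W, DP a ∧ DP b ∧ qW 1 a = 0 ∧ qW 1 b = 0 ∧ BW a b = 1 := by decide +kernel

theorem sg_ne : ∃ w : W, sg w ≠ w := by decide +kernel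

namespace Uniq

/-- The relations inside the layer. -/
structure MRel {G : Type*} [Group G] (z b c f g : G) : Prop where
  bb : b * b = 1
  cc : c * c = 1
  ff : f * f = 1
  gg : g * g = 1
  ab : (z * b) ^ 5 = 1
  bc : (b * c) ^ 3 = 1
  bf : (b * f) ^ 3 = 1
  bg : (b * g) ^ 3 = 1
  fg : (f * g) ^ 2 = z
  abcf : (z * b * c * f) ^ 5 = 1
  abcg : (z * b * c * g) ^ 5 = 1
  bfg : (b * f * g) ^ 5 = 1
  zeta : z * b * z * b * z * c * b * z * b * z * c * b * z * b * c = 1

end Uniq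

open Uniq Uniq.M3

variable {G : Type*} [Group G] [Finite G] {z : G} {Q : Subgroup G}

namespace Base

variable {K : Coord z Q 1} {x y : G} (S : Base K x y)

theorem exists_frame {t : G} {L : Subgroup G} (D : S.LData t L) (ht : S.Typ t) :
    ∃ b c f g ρ η : G, FrameData z Q b c f g ρ η t ∧ MRel z b c f g ∧ ρ = b * z * f * b * z * b := by
  classical
  have H := S.hyp
  obtain ⟨V, A, hcfg⟩ := D.four_config ht
  obtain ⟨-, -, F, _, _, hF, ⟨e⟩⟩ := hcfg.shapeFour (D.isCIT ht) (D.pCore_bot ht) (D.pPrime_bot ht) (D.card_L ht)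
  obtain ⟨Φ⟩ := F4.exists_f4 hF
  let φ₀ : Matrix.ProjectiveSpecialLinearGroup (Fin 3) F →* G := L.subtype.comp e.symm.toMonoidHom
  have hφ₀ : Function.Injective φ₀ := L.subtype_injective.comp e.symm.injective
  have hφ₀L : ∀ q, φ₀ q ∈ L := fun q => (e.symm q).2
  -- the central involution goes to `z`
  obtain ⟨eA, hZU, hfam⟩ := special
  have hAdet : det mA = E4.one := test_det.2.1
  have hAne : val Φ φ₀ mA ≠ 1 := fun h => by
    have := central_of_val Φ φ₀ hφ₀ hAdet h test_det.1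
    rw [eA] at this
    obtain ⟨-, -, hw⟩ := uni_faithful _ _ _ this
    exact absurd hw (by decide)
  have hA2 : val Φ φ₀ mA * val Φ φ₀ mA = 1 := by
    rw [← val_mm Φ φ₀ hAdet hAdet, show mm mA mA = scal E4.one by decide, val_scal]
  have hAL : val Φ φ₀ mA ∈ L := by rw [val, dif_pos hAdet]; exact hφ₀L _
  obtain ⟨-, a0, ha0, hz0⟩ := D.invol_conj ht hAL hA2 hAne
  let φ : Matrix.ProjectiveSpecialLinearGroup (Fin 3) F →* G := (MulAut.conj a0⁻¹).toMonoidHom.comp φ₀
  have hφ : Function.Injective φ := (MulAut.conj a0⁻¹).injective.comp hφ₀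
  have hφL : ∀ q, φ q ∈ L := fun q => by
    have h := mul_mem (mul_mem (inv_mem ha0) (hφ₀L q)) ha0
    simpa [φ, mul_assoc] using h
  let v : M3 → G := val Φ φ
  have hvA : v mA = z := by
    show val Φ φ mA = z
    rw [val, dif_pos hAdet]
    show a0⁻¹ * φ₀ _ * a0⁻¹⁻¹ = z
    rw [val, dif_pos hAdet] at hz0
    rw [← hz0]; group
  have hvL : ∀ M, v M ∈ L := fun M => by
    show val Φ φ M ∈ L
    rw [val]
    split_ifs
    exacts [hφL _, one_mem L]
  -- the unitriangular group goes onto `Tg`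
  let T : E4 × E4 × E4 → G := fun p => v (uni p.1 p.2.1 p.2.2)
  have hTmem : ∀ p, T p ∈ S.Tg := fun p => D.cent_z ht (hvL _) (by
    rw [← hvA]
    show val Φ φ (uni p.1 p.2.1 p.2.2) * val Φ φ mA = val Φ φ mA * val Φ φ (uni p.1 p.2.1 p.2.2)
    rw [← val_mm Φ φ (uni_det _ _ _) hAdet, ← val_mm Φ φ hAdet (uni_det _ _ _),
      zu_central mA (by decide) p.1 p.2.1 p.2.2])
  have hTinj : Function.Injective T := by
    intro p q h
    have hp1 := uni_mm p.1 p.2.1 p.2.2 q.1 q.2.1 (p.2.2 + E4.mul p.1 q.2.1)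
    have hsq : ∀ a b c : E4, ∃ a' b' c', mm (uni a' b' c') (uni a b c) = scal E4.one := by decide +kernel
    obtain ⟨a', b', c', hinv⟩ := hsq p.1 p.2.1 p.2.2
    have h1 : v (mm (uni a' b' c') (uni q.1 q.2.1 q.2.2)) = 1 := by
      show val Φ φ _ = 1
      rw [val_mm Φ φ (uni_det _ _ _) (uni_det _ _ _), show val Φ φ (uni q.1 q.2.1 q.2.2) = val Φ φ (uni p.1 p.2.1 p.2.2) from h.symm,
        ← val_mm Φ φ (uni_det _ _ _) (uni_det _ _ _), hinv, val_scal]
    have h2 := central_of_val Φ φ hφ (det_mm Φ (uni_det _ _ _) (uni_det _ _ _)) h1 test_det.1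
    rw [uni_mm] at h2 hinv
    obtain ⟨e1, e2, e3⟩ := uni_faithful _ _ _ h2
    simp only [uni, scal, M3.mk.injEq] at hinv
    obtain ⟨-, i1, i3, -, -, i2, -, -, -⟩ := hinv
    have hq1 : q.1 = p.1 := add_left_cancel (e1.trans i1.symm)
    have hq2 : q.2.1 = p.2.1 := add_left_cancel (e2.trans i2.symm)
    rw [hq2] at e3
    have hq3 : q.2.2 = p.2.2 := add_left_cancel (add_right_cancel (e3.trans i3.symm))
    exact (Prod.ext hq1 (Prod.ext hq2 hq3)).symm
  have hTsurj : ∀ n ∈ S.Tg, ∃ p, T p = n := by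
    intro n hn
    have hb : Function.Bijective fun p => (⟨T p, hTmem p⟩ : S.Tg) :=
      (Nat.bijective_iff_injective_and_card _).2 ⟨fun p q h => hTinj (congrArg Subtype.val h), by
        rw [S.card_Tg, Nat.card_prod, Nat.card_prod]; simp [Nat.card_prod]⟩
    obtain ⟨p, hp⟩ := hb.2 ⟨n, hn⟩
    exact ⟨p, congrArg Subtype.val hp⟩
  -- the centre goes into `{1, z, x, zx}`
  have hzu : ∀ M ∈ ZU, ∃ i j, v M = S.el i j := by
    intro M hM
    obtain ⟨a, b, c, eM⟩ : ∃ a b c, M = uni a b c := by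
      simp only [ZU, List.mem_cons, List.not_mem_nil, or_false] at hM
      rcases hM with rfl | rfl | rfl | rfl <;> exact ⟨_, _, _, rfl⟩
    obtain ⟨p, hp, hpn⟩ := hTmem (a, b, c)
    obtain rfl : p = 0 := centre_T p hp fun d hd _ => by
      obtain ⟨n, hn⟩ := S.par_exists d
      obtain ⟨q, hq⟩ := hTsurj n ⟨d, hd, hn⟩
      refine (S.par_commute_iff hpn hn).1 ?_
      rw [← hq]
      show val Φ φ (uni a b c) * val Φ φ (uni q.1 q.2.1 q.2.2) = val Φ φ (uni q.1 q.2.1 q.2.2) * val Φ φ (uni a b c)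
      rw [← val_mm Φ φ (uni_det _ _ _) (uni_det _ _ _), ← val_mm Φ φ (uni_det _ _ _) (uni_det _ _ _),
        ← eM, zu_central M hM]
    rw [eM]
    exact S.par_zero hpn
  -- two involutions of `Q` in `Tg`
  obtain ⟨wa, wb, hwa, hwb, hqa, hqb, hab⟩ := DP_frame
  have mk : ∀ w, DP w → qW 1 w = 0 → ∃ n, n ∈ Q ∧ n * n = 1 ∧ n ∈ S.Tg ∧ K.vec n = inj w := fun w hw hq =>
    ⟨K.lift (inj w), K.lift_mem _, (K.invol_iff H.extra.ne_one (K.lift_mem _)).2 (by
      rw [K.vec_lift]; simpa [qV, inj] using hq),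
      ⟨(0, w), ⟨⟨by simp [BW], by simp [BW]⟩, hw⟩, by
        simpa [K.vec_lift, inj] using S.par_mem (K.lift_mem (inj w)) (S.lift_x w)⟩, K.vec_lift _⟩
  obtain ⟨f1, hf1Q, hf12, hf1T, hf1v⟩ := mk wa hwa hqa
  obtain ⟨g1, hg1Q, hg12, hg1T, hg1v⟩ := mk wb hwb hqb
  have hfg1 : f1 * g1 * (f1 * g1) = z := by
    rw [K.sq (mul_mem hf1Q hg1Q), if_neg]
    rw [K.mul hf1Q hg1Q, hf1v, hg1v, qV_add]
    simp [qV, inj, B, hqa, hqb, hab]
  obtain ⟨p, hp⟩ := hTsurj f1 hf1T
  obtain ⟨q, hq⟩ := hTsurj g1 hg1T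
  have exact_of_val : ∀ a b c a' b' c', v (uni a b c) = v (uni a' b' c') → uni a b c = uni a' b' c' :=
    fun a b c a' b' c' h => by
      have e := hTinj (a₁ := (a, b, c)) (a₂ := (a', b', c')) h
      simp only [Prod.mk.injEq] at e
      rw [e.1, e.2.1, e.2.2]
  have hone : scal E4.one = uni 0 0 0 := by decide
  have hsq : ∀ p : E4 × E4 × E4, T p * T p = 1 →
      mm (uni p.1 p.2.1 p.2.2) (uni p.1 p.2.1 p.2.2) = scal E4.one := by
    intro p h
    rw [uni_mm, hone]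
    refine exact_of_val _ _ _ _ _ _ ?_
    rw [← uni_mm, ← hone]
    show val Φ φ _ = val Φ φ _
    rw [val_mm Φ φ (uni_det _ _ _) (uni_det _ _ _), val_scal]
    exact h
  have hcomm : mm (mm (uni p.1 p.2.1 p.2.2) (uni q.1 q.2.1 q.2.2)) (mm (uni p.1 p.2.1 p.2.2) (uni q.1 q.2.1 q.2.2)) = mA := by
    rw [uni_mm, uni_mm, eA]
    refine exact_of_val _ _ _ _ _ _ ?_
    rw [← uni_mm, ← uni_mm, ← eA, hvA, ← hfg1, ← hp, ← hq]
    show val Φ φ _ = _
    rw [val_mm Φ φ (det_mm Φ (uni_det _ _ _) (uni_det _ _ _)) (det_mm Φ (uni_det _ _ _) (uni_det _ _ _)),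
      val_mm Φ φ (uni_det _ _ _) (uni_det _ _ _)]
  obtain ⟨k, hkf, hkg⟩ := variants _ _ _ _ _ _ (hsq p (by rw [hp]; exact hf12)) (hsq q (by rw [hq]; exact hg12)) hcomm
  let G5 : ℕ → G := fun i => v (gen k i)
  have hword : ∀ w : List ℕ, (∀ i ∈ w, i < 5) → v (prodL (w.map (gen k))) = (w.map G5).prod := fun w hw => by
    show val Φ φ _ = _
    rw [(val_prodL Φ φ (w.map (gen k)) (fun A hA => by
      obtain ⟨i, hi, rfl⟩ := List.mem_map.1 hA
      exact gen_det k i (hw i hi))).2, List.map_map]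
    rfl
  have hrel : ∀ j : Fin relW.length, ((relW.get j).map G5).prod = 1 := fun j => by
    obtain ⟨s, hs⟩ := rel_ok k _ (List.get_mem relW j)
    rw [← hword _ (rel_letters _ (List.get_mem relW j)), hs]
    exact val_scal Φ φ s
  have hne : ∀ j : Fin neW.length, ((neW.get j).map G5).prod ≠ 1 := fun j h => by
    have hd := (val_prodL Φ φ ((neW.get j).map (gen k)) (fun A hA => by
      obtain ⟨i, hi, rfl⟩ := List.mem_map.1 hA
      exact gen_det k i (ne_letters _ (List.get_mem neW j) i hi))).1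
    rw [← hword _ (ne_letters _ (List.get_mem neW j))] at h
    rcases ne_ok k _ (List.get_mem neW j) with h' | h'
    · exact h' (central_of_val Φ φ hφ hd h test_det.1)
    · exact h' (central_of_val Φ φ hφ hd h test_det.2.2)
  obtain ⟨a, b, c, f, g, ha, hb, hc, hf, hg⟩ : ∃ a b c f g : G, a = G5 0 ∧ b = G5 1 ∧ c = G5 2 ∧ f = G5 3 ∧ g = G5 4 :=
    ⟨_, _, _, _, _, rfl, rfl, rfl, rfl, rfl⟩
  have haz : a = z := ha.trans hvA
  rw [haz] at ha
  have key : ∀ (j : ℕ) (hj : j < relW.length), ((relW.get ⟨j, hj⟩).map G5).prod = 1 := fun j hj => hrel ⟨j, hj⟩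
  have nkey : ∀ (j : ℕ) (hj : j < neW.length), ((neW.get ⟨j, hj⟩).map G5).prod ≠ 1 := fun j hj => hne ⟨j, hj⟩
  clear hrel hne hword
  have n0 : z ≠ 1 := H.extra.ne_one
  have r1 : b * b = 1 := by simpa [relW, ← hb] using key 1 (by decide)
  have r2 : c * c = 1 := by simpa [relW, ← hc] using key 2 (by decide)
  have r3 : f * f = 1 := by simpa [relW, ← hf] using key 3 (by decide)
  have r4 : g * g = 1 := by simpa [relW, ← hg] using key 4 (by decide)
  have r5 : (z * b) ^ 5 = 1 := by simpa [relW, ← ha, ← hb, pow_succ, mul_assoc] using key 5 (by decide)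
  have r6 : (b * c) ^ 3 = 1 := by simpa [relW, ← hb, ← hc, pow_succ, mul_assoc] using key 6 (by decide)
  have r7 : (b * f) ^ 3 = 1 := by simpa [relW, ← hb, ← hf, pow_succ, mul_assoc] using key 7 (by decide)
  have r8 : (b * g) ^ 3 = 1 := by simpa [relW, ← hb, ← hg, pow_succ, mul_assoc] using key 8 (by decide)
  have r13 : c * f * (c * f) = 1 := by simpa [relW, ← hc, ← hf, mul_assoc] using key 13 (by decide)
  have r14 : c * g * (c * g) = 1 := by simpa [relW, ← hc, ← hg, mul_assoc] using key 14 (by decide)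
  have r15 : (z * b * c * f) ^ 5 = 1 := by simpa [relW, ← ha, ← hb, ← hc, ← hf, pow_succ, mul_assoc] using key 15 (by decide)
  have r16 : (z * b * c * g) ^ 5 = 1 := by simpa [relW, ← ha, ← hb, ← hc, ← hg, pow_succ, mul_assoc] using key 16 (by decide)
  have r17 : (b * f * g) ^ 5 = 1 := by simpa [relW, ← hb, ← hf, ← hg, pow_succ, mul_assoc] using key 17 (by decide)
  have r18 : z * b * z * b * z * c * b * z * b * z * c * b * z * b * c = 1 := by
    simpa [relW, ← ha, ← hb, ← hc, mul_assoc] using key 18 (by decide)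
  have r19 : z * f * g * f * g = 1 := by simpa [relW, ← ha, ← hf, ← hg, mul_assoc] using key 19 (by decide)
  have r21 : ((b * z * f * b * z * b) * (b * z * f * b * z * b) * (b * z * f * b * z * b)) = 1 := by
    simpa [relW, ← ha, ← hb, ← hf, mul_assoc] using key 21 (by decide)
  have r25 : ((b * z * g * b * z * b) * (b * z * g * b * z * b) * (b * z * g * b * z * b)) = 1 := by
    simpa [relW, ← ha, ← hb, ← hg, mul_assoc] using key 25 (by decide)
  have hzz := H.extra.sq_one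
  have hzi : z⁻¹ = z := inv_eq_of_mul_eq_one_right hzz
  have hbi : b⁻¹ = b := inv_eq_of_mul_eq_one_right r1
  have hfi : f⁻¹ = f := inv_eq_of_mul_eq_one_right r3
  have hgi : g⁻¹ = g := inv_eq_of_mul_eq_one_right r4
  have hci : c⁻¹ = c := inv_eq_of_mul_eq_one_right r2
  obtain ⟨ρ, hρ⟩ : ∃ ρ, ρ = b * z * f * b * z * b := ⟨_, rfl⟩
  obtain ⟨η, hη⟩ : ∃ η, η = b * z * g * b * z * b := ⟨_, rfl⟩
  have hρi : ρ⁻¹ = b * z * b * f * z * b := by rw [hρ]; simp [mul_inv_rev, hzi, hbi, hfi, mul_assoc]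
  have hηi : η⁻¹ = b * z * b * g * z * b := by rw [hη]; simp [mul_inv_rev, hzi, hbi, hgi, mul_assoc]
  have r22 : ρ * z * ρ⁻¹ = f := by
    refine (eq_inv_of_mul_eq_one_left ?_).trans hfi
    rw [hρi, hρ]; simpa [relW, ← ha, ← hb, ← hf, mul_assoc] using key 22 (by decide)
  have r23 : ρ * f * ρ⁻¹ = z * f := by
    refine (eq_inv_of_mul_eq_one_left (b := f * z) ?_).trans (by rw [mul_inv_rev, hzi, hfi])
    rw [hρi, hρ]; simpa [relW, ← ha, ← hb, ← hf, mul_assoc] using key 23 (by decide)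
  have r24 : g * ρ * g⁻¹ = f * ρ⁻¹ := by
    refine (eq_inv_of_mul_eq_one_left (b := ρ * f) ?_).trans (by rw [mul_inv_rev, hfi])
    rw [hgi, hρ]; simpa [relW, ← ha, ← hb, ← hf, ← hg, mul_assoc] using key 24 (by decide)
  have r26 : η * z * η⁻¹ = g := by
    refine (eq_inv_of_mul_eq_one_left ?_).trans hgi
    rw [hηi, hη]; simpa [relW, ← ha, ← hb, ← hg, mul_assoc] using key 26 (by decide)
  have r27 : η * g * η⁻¹ = z * g := by
    refine (eq_inv_of_mul_eq_one_left (b := g * z) ?_).trans (by rw [mul_inv_rev, hzi, hgi])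
    rw [hηi, hη]; simpa [relW, ← ha, ← hb, ← hg, mul_assoc] using key 27 (by decide)
  have r28 : f * η * f⁻¹ = g * η⁻¹ := by
    refine (eq_inv_of_mul_eq_one_left (b := η * g) ?_).trans (by rw [mul_inv_rev, hgi])
    rw [hfi, hη]; simpa [relW, ← ha, ← hb, ← hf, ← hg, mul_assoc] using key 28 (by decide)
  have r29 : b * (η⁻¹ * ρ⁻¹ * z * η * ρ) = 1 := by
    rw [hρi, hηi, hρ, hη]; simpa [relW, ← ha, ← hb, ← hf, ← hg, mul_assoc] using key 29 (by decide)
  have r30 : (ρ⁻¹ * (c * η * c)) ^ 7 = 1 := by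
    rw [hρi, hη]; simpa [relW, ← ha, ← hb, ← hc, ← hf, ← hg, pow_succ, mul_assoc] using key 30 (by decide)
  have s1 : f * g * (f * g) ≠ 1 := by simpa [neW, ← hf, ← hg, mul_assoc] using nkey 1 (by decide)
  have s2 : c ≠ 1 := by simpa [neW, ← hc] using nkey 2 (by decide)
  have s3 : c * z ≠ 1 := by simpa [neW, ← ha, ← hc] using nkey 3 (by decide)
  have s4 : c * f ≠ 1 := by simpa [neW, ← hc, ← hf] using nkey 4 (by decide)
  have s5 : c * z * f ≠ 1 := by simpa [neW, ← ha, ← hc, ← hf, mul_assoc] using nkey 5 (by decide)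
  have s6 : ρ⁻¹ * (c * η * c) ≠ 1 := by
    rw [hρi, hη]; simpa [neW, ← ha, ← hb, ← hc, ← hf, ← hg, mul_assoc] using nkey 6 (by decide)
  have hfgne : f * g ≠ g * f := fun h => s1 (by
    conv_lhs => arg 2; rw [h]
    rw [show f * g * (g * f) = f * (g * g) * f by group, r4, mul_one, r3])
  have hfg : (f * g) ^ 2 = z := by
    have h2 : z * ((f * g) ^ 2) = 1 := by rw [← r19, pow_two]; simp only [mul_assoc]
    exact (inv_eq_of_mul_eq_one_right h2).symm.trans hzi
  -- positions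
  have elQ : ∀ {M : M3}, M ∈ ZU → v M ∈ Q := fun {M} hM => by
    obtain ⟨i, j, e⟩ := hzu M hM
    rw [e]; exact S.el_mem i j
  have inQ : ∀ {n n1 : G} {M P : M3}, det M = E4.one → det P = E4.one → n = v M → n1 = v P → n1 ∈ Q →
      mm M P ∈ ZU → n ∈ Q := fun {n n1 M P} hM hP hn hn1 h1 hmem => by
    have h2 : n * n1 ∈ Q := by
      rw [hn, hn1]
      show val Φ φ M * val Φ φ P ∈ Q
      rw [← val_mm Φ φ hM hP]
      exact elQ hmem
    exact (Subgroup.mul_mem_cancel_right Q h1).1 h2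
  have hfQ : f ∈ Q := inQ (gen_det k 3 (by norm_num)) (uni_det _ _ _) hf hp.symm hf1Q hkf
  have hgQ : g ∈ Q := inQ (gen_det k 4 (by norm_num)) (uni_det _ _ _) hg hq.symm hg1Q hkg
  have hcQ : c ∈ Q := hc ▸ elQ hZU
  have hfT : f ∈ S.Tg := by
    obtain ⟨v', u', w', e⟩ := (hfam k).1
    rw [hf]; show v (mF k) ∈ S.Tg
    rw [e]; exact hTmem (v', u', w')
  have hgT : g ∈ S.Tg := by
    obtain ⟨v', u', w', e⟩ := (hfam k).2
    rw [hg]; show v (mG k) ∈ S.Tg
    rw [e]; exact hTmem (v', u', w')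
  have htL : ∀ l ∈ L, Commute t l := fun l hl => (D.comm_t hl).symm
  have hL : ∀ i, G5 i ∈ L := fun i => hvL _
  have tz : Commute t z := S.typ_comm ht
  have tb : Commute t b := htL _ (hb ▸ hL 1)
  have tc : Commute t c := htL _ (hc ▸ hL 2)
  have tf : Commute t f := htL _ (hf ▸ hL 3)
  have tg : Commute t g := htL _ (hg ▸ hL 4)
  have tr : Commute t ρ := hρ ▸ ((((tb.mul_right tz).mul_right tf).mul_right tb).mul_right tz).mul_right tb
  have te : Commute t η := hη ▸ ((((tb.mul_right tz).mul_right tg).mul_right tb).mul_right tz).mul_right tb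
  have htQ : t ∉ Q := fun h => by
    obtain ⟨d, hd⟩ := K.conj_of_mem H h (S.typ_sq ht) (S.typ_ne_one ht)
    exact S.typ_not_conj ht (isConj_iff.2 ⟨d, hd⟩)
  have tails : ∀ {n : G}, n ∈ Q → n ∈ S.Tg → n * x = x * n ∧ DP (K.vec n).2 := fun {n} hn hT => by
    obtain ⟨p', hT', hpar⟩ := hT
    have hx := (S.par_comm hpar).2.1
    have e := S.par_unique hpar (S.par_mem hn hx)
    rw [e] at hT'
    exact ⟨hx, hT'.2⟩
  have hqt : ∀ m ∈ Q, m * t = t * m → m * f = f * m → m * g = g * m → m = 1 ∨ m = z ∨ m = c ∨ m = z * c := by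
    intro m hm hmt hmf hmg
    rcases S.res_cases ht (mem_Sg.2 ⟨H.extra.comm_z hm, hmt⟩) with ⟨hmx, p', hpar, hC⟩ | ⟨-, hres⟩
    · rw [S.par_unique hpar (S.par_mem hm hmx)] at hC
      obtain ⟨hfx, hfD⟩ := tails hfQ hfT
      obtain ⟨hgx, hgD⟩ := tails hgQ hgT
      have hB : ∀ {a b : G}, a ∈ Q → b ∈ Q → a * x = x * a → b * x = x * b →
          (a * b = b * a ↔ BW (K.vec a).2 (K.vec b).2 = 0) := fun {a b} ha hb hax hbx => by
        rw [K.comm_iff H.extra.ne_one ha hb]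
        simp [B, (S.comm_x_iff ha).1 hax, (S.comm_x_iff hb).1 hbx]
      have hw := DP_perp _ _ _ (CP_axis _ hC) hfD hgD
        ((zcases _).resolve_left fun h => hfgne ((hB hfQ hgQ hfx hgx).2 h))
        ((hB hm hfQ hmx hfx).1 hmf) ((hB hm hgQ hmx hgx).1 hmg)
      obtain ⟨i, j, rfl⟩ := S.exists_el hm ((S.comm_x_iff hm).1 hmx) hw
      obtain ⟨i', j', ec⟩ := hzu _ hZU
      rw [show c = S.el i' j' from hc.trans ec] at s2 s3 ⊢
      have hxz : x * z = z * x := S.xz
      rcases zcases i with rfl | rfl <;> rcases zcases j with rfl | rfl <;>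
        rcases zcases i' with rfl | rfl <;> rcases zcases j' with rfl | rfl <;>
        simp_all [Base.el, hzz]
      all_goals simp [← mul_assoc, hzz]
    · obtain ⟨w, hw⟩ := sg_ne
      exact absurd ((hres w).symm.trans (K.res_mem H hm w)) hw
  have hcmm : ∀ {u w : G}, u * u = 1 → w * w = 1 → u * w * (u * w) = 1 → u * w = w * u := fun {u w} h1 h2 h => by
    calc u * w = (u * w)⁻¹ := (inv_eq_of_mul_eq_one_right h).symm
      _ = w * u := by rw [mul_inv_rev, inv_eq_of_mul_eq_one_right h1, inv_eq_of_mul_eq_one_right h2]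
  have mem2 : ∀ {u w : G} {X : Set G}, u ∈ X → w ∈ X → u * w⁻¹ ∈ closure X := fun hu hw =>
    mul_mem (subset_closure hu) (inv_mem (subset_closure hw))
  refine ⟨b, c, f, g, ρ, η, ⟨?_, ?_, hcQ, r2, hcmm r2 r3 r13, hcmm r2 r4 r14, ?_, tc.eq, ?_, hqt, ?_⟩,
    ⟨r1, r2, r3, r4, r5, r6, r7, r8, hfg, r15, r16, r17, r18⟩, hρ⟩
  · exact ⟨hfQ, hgQ, r3, hfgne, hρ ▸ r21, r22, r23, r24 ▸ mem2 (by simp) (by simp), S.typ_sq ht, tz.eq, tf.eq,
      tg.eq, tr.eq, htQ⟩
  · exact ⟨hgQ, hfQ, r4, Ne.symm hfgne, hη ▸ r25, r26, r27, r28 ▸ mem2 (by simp) (by simp), S.typ_sq ht, tz.eq,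
      tg.eq, tf.eq, te.eq, htQ⟩
  · refine ⟨s2, fun h => ?_, fun h => ?_, fun h => ?_⟩
    · exact s3 (by rw [h, hzz])
    · exact s4 (by rw [h, r3])
    · exact s5 (by rw [h, show z * f * z * f = z * (f * z) * f by group, H.extra.comm_z hfQ, ← mul_assoc, hzz,
        one_mul, r3])
  · rw [eq_inv_of_mul_eq_one_left r29]
    have hm : ∀ u ∈ ({z, f, g, ρ, η} : Set G), u ∈ closure ({z, f, g, ρ, η} : Set G) := fun u hu => subset_closure hu
    exact inv_mem (mul_mem (mul_mem (mul_mem (mul_mem (inv_mem (hm η (by simp))) (inv_mem (hm ρ (by simp))))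
      (hm z (by simp))) (hm η (by simp))) (hm ρ (by simp)))
  · have : Fact (Nat.Prime 7) := ⟨by norm_num⟩
    exact ⟨ρ⁻¹ * (c * η * c), mul_mem (inv_mem (subset_closure (by simp))) (subset_closure (by simp)),
      orderOf_eq_prime r30 s6⟩

end Base

end CfsgLib.SuzType
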