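import Mathlib
import Cfsg.Agent.Lib.Presented.Order
import Cfsg.Agent.Lib.SuzType.Uniq.CertFour
import Cfsg.Agent.Lib.SuzType.Uniq.CertFive
import Cfsg.Agent.Lib.SuzType.Uniq.CertSix

/-!
Identities among elements satisfying part of the relations of the presented Suzuki group, from coset
enumeration certificates: the element `(b c d c d)⁵` has order dividing three and centralizes `a, b, c, f`.
-/

set_option autoImplicit false
set_option maxHeartbeats 1000000
set_option maxRecDepth 8000
set_option linter.style.longLine false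

namespace CfsgLib.SuzType.Uniq

open CfsgLib.Presented Subgroup

variable {G : Type*} [Group G]

/-- The relations on `a, b, c, d`. -/
structure RelFour (a b c d : G) : Prop where
  aa : a * a = 1
  bb : b * b = 1
  cc : c * c = 1
  dd : d * d = 1
  ab : (a * b) ^ 5 = 1
  ac : (a * c) ^ 2 = 1
  ad : (a * d) ^ 2 = 1
  bc : (b * c) ^ 3 = 1
  bd : (b * d) ^ 2 = 1
  cd : (c * d) ^ 8 = 1
  adc : a * (d * c) ^ 4 = 1
  zeta : a * b * a * b * a * c * b * a * b * a * c * b * a * b * c = 1

/-- The further relations on `f`. -/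
structure RelFive (a b c d f : G) : Prop extends RelFour a b c d where
  ff : f * f = 1
  af : (a * f) ^ 2 = 1
  bf : (b * f) ^ 3 = 1
  cf : (c * f) ^ 2 = 1
  df : (d * f) ^ 2 = 1
  abcf : (a * b * c * f) ^ 5 = 1

/-- The element `(b c d c d)⁵`. -/
def wEl (b c d : G) : G := (b * c * d * c * d) ^ 5

theorem comm_of_word {x w : G} {u : G} (hu : w * u = 1) (hx : x * x = 1) (h : w * x * u * x = 1) :
    w * x = x * w := by
  have e1 : w * x * u = x := by
    have h' := eq_inv_of_mul_eq_one_left h
    rwa [inv_eq_of_mul_eq_one_right hx] at h'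
  calc w * x = w * x * (u * w) := by rw [mul_eq_one_comm.1 hu, mul_one]
    _ = x * w := by rw [← mul_assoc, e1]

theorem w_rev {b c d : G} (hb : b * b = 1) (hc : c * c = 1) (hd : d * d = 1) :
    wEl b c d * (d * c * d * c * b) ^ 5 = 1 := by
  rw [wEl, show d * c * d * c * b = (b * c * d * c * d)⁻¹ by
    simp only [mul_inv_rev, inv_eq_of_mul_eq_one_right hb, inv_eq_of_mul_eq_one_right hc,
      inv_eq_of_mul_eq_one_right hd, mul_assoc], inv_pow, mul_inv_cancel]

theorem w_four {a b c d : G} (R : RelFour a b c d) :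
    wEl b c d ^ 3 = 1 ∧ wEl b c d * a = a * wEl b c d ∧ wEl b c d * b = b * wEl b c d ∧
      wEl b c d * c = c * wEl b c d := by
  let ev : ℕ → G := fun x => [a, b, c, d].getD x 1
  have hI : CertFour.enum.Interp ev ((1 : G) : G ⧸ (⊥ : Subgroup G)) := by
    refine ⟨rfl, fun x hx => ?_, fun w hw => ?_, fun w hw => by simp [CertFour.enum, CertFour.subWords] at hw⟩
    · have hx4 : x < 4 := hx
      interval_cases x
      exacts [R.aa, R.bb, R.cc, R.dd]
    · simp only [CertFour.enum, CertFour.relWords, List.mem_cons, List.not_mem_nil, or_false] at hw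
      rcases hw with rfl | rfl | rfl | rfl | rfl | rfl | rfl | rfl
      · simpa [evW, ev, pow_succ, mul_assoc] using R.ab
      · simpa [evW, ev, pow_succ, mul_assoc] using R.ac
      · simpa [evW, ev, pow_succ, mul_assoc] using R.ad
      · simpa [evW, ev, pow_succ, mul_assoc] using R.bc
      · simpa [evW, ev, pow_succ, mul_assoc] using R.bd
      · simpa [evW, ev, pow_succ, mul_assoc] using R.cd
      · simpa [evW, ev, pow_succ, mul_assoc] using R.adc
      · simpa [evW, ev, pow_succ, mul_assoc] using R.zeta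
  have hm : ∀ {g : G}, g • (((1 : G) : G ⧸ (⊥ : Subgroup G))) = ((1 : G) : G ⧸ (⊥ : Subgroup G)) → g = 1 :=
    fun h => Subgroup.mem_bot.1 (mem_of_fix h)
  have hu := w_rev R.bb R.cc R.dd
  refine ⟨?_, comm_of_word hu R.aa ?_, comm_of_word hu R.bb ?_, comm_of_word hu R.cc ?_⟩
  · have h := hm (CertFour.loop0 hI)
    simpa [evW, ev, wEl, pow_succ, mul_assoc] using h
  · have h := hm (CertFour.loop1 hI)
    simpa [evW, ev, wEl, pow_succ, mul_assoc] using h
  · have h := hm (CertFour.loop2 hI)
    simpa [evW, ev, wEl, pow_succ, mul_assoc, R.bb] using h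
  · have h := hm (CertFour.loop3 hI)
    simpa [evW, ev, wEl, pow_succ, mul_assoc] using h

theorem mem_four {a f r : G} (ha : a * a = 1) (hf : f * f = 1) (haf : a * f = f * a)
    (h : r ∈ closure ({a, f} : Set G)) : r = 1 ∨ r = a ∨ r = f ∨ r = a * f := by
  have hia := inv_eq_of_mul_eq_one_right ha
  have hif := inv_eq_of_mul_eq_one_right hf
  have e1 : a * (a * f) = f := by rw [← mul_assoc, ha, one_mul]
  have e2 : f * (a * f) = a := by rw [haf, ← mul_assoc, hf, one_mul]
  induction h using Subgroup.closure_induction_left with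
  | one => exact Or.inl rfl
  | mul_left x hx y _ ih =>
    rcases hx with rfl | rfl <;> rcases ih with rfl | rfl | rfl | rfl <;>
      simp [ha, hf, e1, e2, haf.symm]
  | inv_mul_cancel x hx y _ ih =>
    rcases hx with rfl | rfl <;> rcases ih with rfl | rfl | rfl | rfl <;>
      simp [hia, hif, ha, hf, e1, e2, haf.symm]

theorem w_five {a b c d f : G} (R : RelFive a b c d f) (hf1 : f ≠ 1) (hfa : f ≠ a) (ha1 : a ≠ 1) :
    wEl b c d * f = f * wEl b c d := by
  let ev : ℕ → G := fun x => [a, b, c, d, f].getD x 1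
  let H := closure ({a, f} : Set G)
  have haH : a ∈ H := subset_closure (Or.inl rfl)
  have hfH : f ∈ H := subset_closure (Or.inr rfl)
  have hI : CertFive.enum.Interp ev ((1 : G) : G ⧸ H) := by
    refine ⟨rfl, fun x hx => ?_, fun w hw => ?_, fun w hw => ?_⟩
    · have hx5 : x < 5 := hx
      interval_cases x
      exacts [R.aa, R.bb, R.cc, R.dd, R.ff]
    · simp only [CertFive.enum, CertFive.relWords, List.mem_cons, List.not_mem_nil, or_false] at hw
      rcases hw with rfl | rfl | rfl | rfl | rfl | rfl | rfl | rfl | rfl | rfl | rfl | rfl | rfl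
      · simpa [evW, ev, pow_succ, mul_assoc] using R.ab
      · simpa [evW, ev, pow_succ, mul_assoc] using R.ac
      · simpa [evW, ev, pow_succ, mul_assoc] using R.ad
      · simpa [evW, ev, pow_succ, mul_assoc] using R.af
      · simpa [evW, ev, pow_succ, mul_assoc] using R.bc
      · simpa [evW, ev, pow_succ, mul_assoc] using R.bd
      · simpa [evW, ev, pow_succ, mul_assoc] using R.bf
      · simpa [evW, ev, pow_succ, mul_assoc] using R.cd
      · simpa [evW, ev, pow_succ, mul_assoc] using R.cf
      · simpa [evW, ev, pow_succ, mul_assoc] using R.df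
      · simpa [evW, ev, pow_succ, mul_assoc] using R.adc
      · simpa [evW, ev, pow_succ, mul_assoc] using R.abcf
      · simpa [evW, ev, pow_succ, mul_assoc] using R.zeta
    · rw [MulAction.Quotient.smul_coe, smul_eq_mul, mul_one, QuotientGroup.eq, mul_one, H.inv_mem_iff]
      simp only [CertFive.enum, CertFive.subWords, List.mem_cons, List.not_mem_nil, or_false] at hw
      rcases hw with rfl | rfl
      · simpa [evW, ev] using haH
      · simpa [evW, ev] using hfH
  obtain ⟨hw3, hwa, -, -⟩ := w_four R.toRelFour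
  set w := wEl b c d with hw
  have hu := w_rev R.bb R.cc R.dd
  have h : w * f * (d * c * d * c * b) ^ 5 * f ∈ H := by
    have h := mem_of_fix (CertFive.loop0 hI)
    simpa [evW, ev, hw, wEl, pow_succ, mul_assoc] using h
  rw [show (d * c * d * c * b) ^ 5 = w⁻¹ from eq_inv_of_mul_eq_one_right hu] at h
  have haf : a * f = f * a := by
    have h2 := R.af
    rw [pow_two] at h2
    calc a * f = (a * f)⁻¹ := (inv_eq_of_mul_eq_one_right h2).symm
      _ = f * a := by rw [mul_inv_rev, inv_eq_of_mul_eq_one_right R.aa, inv_eq_of_mul_eq_one_right R.ff]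
  have hc : ∀ {v : G}, w * f * w⁻¹ * f = v → w * f * w⁻¹ = v * f := fun {v} e => by
    rw [← e, mul_assoc _ f f, R.ff, mul_one]
  have hwaw : w * a * w⁻¹ = a := by rw [hwa, mul_inv_cancel_right]
  rcases mem_four R.aa R.ff haf h with e | e | e | e
  · exact mul_inv_eq_iff_eq_mul.1 ((hc e).trans (one_mul f))
  · exfalso
    have e1 := hc e
    have e2 : w * (a * f) * w⁻¹ = f := by
      rw [show w * (a * f) * w⁻¹ = w * a * w⁻¹ * (w * f * w⁻¹) by group, hwaw, e1, ← mul_assoc, R.aa, one_mul]
    have e3 : w ^ 3 * f * (w ^ 3)⁻¹ = a * f := by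
      rw [show w ^ 3 * f * (w ^ 3)⁻¹ = w * (w * (w * f * w⁻¹) * w⁻¹) * w⁻¹ by
        rw [pow_succ, pow_succ, pow_one]; group, e1, e2, e1]
    rw [hw3, one_mul, inv_one, mul_one] at e3
    exact ha1 (right_eq_mul.1 e3)
  · exfalso
    have e1 := hc e
    rw [R.ff, conj_eq_one_iff] at e1
    exact hf1 e1
  · exfalso
    have e1 := hc e
    rw [mul_assoc a f f, R.ff, mul_one] at e1
    refine hfa (mul_left_cancel (a := w) (mul_right_cancel (b := w⁻¹) ?_))
    rw [e1, hwaw]

/-- If `(b c d c d)⁵ = 1` then `d c d` lies in the subgroup generated by `a, b, c, e`. -/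
theorem dcd_mem {a b c d e : G} (R : RelFour a b c d) (hee : e * e = 1) (hae : (a * e) ^ 2 = 1)
    (hbe : (b * e) ^ 2 = 1) (hce : (c * e) ^ 2 = 1) (hde : (d * e) ^ 3 = 1) (hw : wEl b c d = 1) :
    d * c * d ∈ closure ({a, b, c, e} : Set G) := by
  let ev : ℕ → G := fun x => [a, b, c, d, e].getD x 1
  let H := closure ({a, b, c, e} : Set G)
  have hI : CertSix.enum.Interp ev ((1 : G) : G ⧸ H) := by
    refine ⟨rfl, fun x hx => ?_, fun w hw' => ?_, fun w hw' => ?_⟩
    · have hx5 : x < 5 := hx
      interval_cases x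
      exacts [R.aa, R.bb, R.cc, R.dd, hee]
    · simp only [CertSix.enum, CertSix.relWords, List.mem_cons, List.not_mem_nil, or_false] at hw'
      rcases hw' with rfl | rfl | rfl | rfl | rfl | rfl | rfl | rfl | rfl | rfl | rfl | rfl | rfl
      · simpa [evW, ev, pow_succ, mul_assoc] using R.ab
      · simpa [evW, ev, pow_succ, mul_assoc] using R.ac
      · simpa [evW, ev, pow_succ, mul_assoc] using R.ad
      · simpa [evW, ev, pow_succ, mul_assoc] using hae
      · simpa [evW, ev, pow_succ, mul_assoc] using R.bc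
      · simpa [evW, ev, pow_succ, mul_assoc] using R.bd
      · simpa [evW, ev, pow_succ, mul_assoc] using hbe
      · simpa [evW, ev, pow_succ, mul_assoc] using R.cd
      · simpa [evW, ev, pow_succ, mul_assoc] using hce
      · simpa [evW, ev, pow_succ, mul_assoc] using hde
      · simpa [evW, ev, pow_succ, mul_assoc] using R.adc
      · simpa [evW, ev, pow_succ, mul_assoc] using R.zeta
      · simpa [evW, ev, wEl, pow_succ, mul_assoc] using hw
    · rw [MulAction.Quotient.smul_coe, smul_eq_mul, mul_one, QuotientGroup.eq, mul_one, H.inv_mem_iff]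
      simp only [CertSix.enum, CertSix.subWords, List.mem_cons, List.not_mem_nil, or_false] at hw'
      have hm : ∀ y ∈ ({a, b, c, e} : Set G), y ∈ H := fun y hy => subset_closure hy
      rcases hw' with rfl | rfl | rfl | rfl
      · simpa [evW, ev] using hm a (by simp)
      · simpa [evW, ev] using hm b (by simp)
      · simpa [evW, ev] using hm c (by simp)
      · simpa [evW, ev] using hm e (by simp)
  have h := mem_of_fix (CertSix.loop0 hI)
  simpa [evW, ev, mul_assoc] using h

end CfsgLib.SuzType.Uniq
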