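import Mathlib
import Cfsg.Prelude.Def_Spor_Suz
import Cfsg.Agent.Lib.Presented.SuzSimple
import Cfsg.Agent.Lib.Presented.SuzOrder
import Cfsg.Agent.Lib.SuzType.Uniq.Identities
import Cfsg.Agent.Lib.SuzType.Uniq.Frame

/-!
A group of Suzuki type is isomorphic to the presented Suzuki group.
-/

set_option autoImplicit false
set_option maxHeartbeats 1000000
set_option maxRecDepth 8000
set_option linter.style.longLine false
set_option linter.unusedSectionVars false

namespace CfsgLib.SuzType

open Uniq Cfsg.Spor

theorem pow_swap {G : Type*} [Group G] {x y : G} {n : ℕ} (h : (x * y) ^ n = 1) : (y * x) ^ n = 1 := by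
  rw [show y * x = x⁻¹ * (x * y) * x⁻¹⁻¹ by group, conj_pow, h, mul_one, mul_inv_cancel]

theorem pow_two_comm {G : Type*} [Group G] {x y : G} (hx : x * x = 1) (hy : y * y = 1) (h : x * y = y * x) :
    (x * y) ^ 2 = 1 := by
  rw [pow_two]
  calc x * y * (x * y) = x * (y * x) * y := by group
    _ = (x * x) * (y * y) := by rw [← h]; group
    _ = 1 := by rw [hx, hy, one_mul]

variable {G : Type*} [Group G] [Finite G] {z : G} {Q : Subgroup G}

/-- A group of Suzuki type is the Suzuki group. -/
theorem Hyp.iso_suz (H : Hyp z Q) : Cfsg.Spor.IsoSuz G := by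
  classical
  obtain ⟨K⟩ := H.exists_minus
  obtain ⟨x, y, S⟩ := K.exists_base H
  obtain ⟨t, ht⟩ := S.exists_typ
  obtain ⟨L, DL⟩ := S.exists_L ht
  obtain ⟨b, c, f, g, ρ, η, D, R, hρ⟩ := S.exists_frame DL ht
  obtain ⟨d, e, hd, qad, qbd', qdf, qdg, hcd4, he, he1, qae, qbe', qce', qef, qeg, pde, hnc, hbraid⟩ := D.main H
  have ha : z * z = 1 := H.extra.sq_one
  have hb := R.bb
  have hc := R.cc
  have hf := R.ff
  have hg := R.gg
  have qac : z * c = c * z := (H.extra.comm_z D.cQ).symm
  have qaf : z * f = f * z := (H.extra.comm_z D.pair1.fQ).symm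
  have qag : z * g = g * z := (H.extra.comm_z D.pair1.gQ).symm
  have qbd : b * d = d * b := qbd'.symm
  have qbe : b * e = e * b := qbe'.symm
  have qce : c * e = e * c := qce'.symm
  have qcf : c * f = f * c := D.cf
  have qcg : c * g = g * c := D.cg
  replace qad : z * d = d * z := qad.symm
  replace qae : z * e = e * z := qae.symm
  have pac : (z * c) ^ 2 = 1 := pow_two_comm ha hc qac
  have pad : (z * d) ^ 2 = 1 := pow_two_comm ha hd qad
  have pae : (z * e) ^ 2 = 1 := pow_two_comm ha he qae
  have paf : (z * f) ^ 2 = 1 := pow_two_comm ha hf qaf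
  have pag : (z * g) ^ 2 = 1 := pow_two_comm ha hg qag
  have pbd : (b * d) ^ 2 = 1 := pow_two_comm hb hd qbd
  have pbe : (b * e) ^ 2 = 1 := pow_two_comm hb he qbe
  have pce : (c * e) ^ 2 = 1 := pow_two_comm hc he qce
  have pcf : (c * f) ^ 2 = 1 := pow_two_comm hc hf qcf
  have pcg : (c * g) ^ 2 = 1 := pow_two_comm hc hg qcg
  have pdf : (d * f) ^ 2 = 1 := pow_two_comm hd hf qdf
  have pdg : (d * g) ^ 2 = 1 := pow_two_comm hd hg qdg
  have pef : (e * f) ^ 2 = 1 := pow_two_comm he hf qef
  have peg : (e * g) ^ 2 = 1 := pow_two_comm he hg qeg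
  have pab := R.ab
  have pbc := R.bc
  have pbf := R.bf
  have pbg := R.bg
  have hfg4 : (f * g) ^ 4 = 1 := by rw [show 4 = 2 * 2 from rfl, pow_mul, R.fg, pow_two, ha]
  have pfg := hfg4
  have pcd : (c * d) ^ 8 = 1 := by rw [show 8 = 4 * 2 from rfl, pow_mul, hcd4, pow_two, ha]
  have hzi : z⁻¹ = z := inv_eq_of_mul_eq_one_right ha
  have hdc4 : z * (d * c) ^ 4 = 1 := by
    rw [show d * c = (c * d)⁻¹ by rw [mul_inv_rev, inv_eq_of_mul_eq_one_right hd, inv_eq_of_mul_eq_one_right hc],
      inv_pow, hcd4, hzi, ha]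
  have R4 : RelFour z b c d := ⟨ha, hb, hc, hd, pab, pac, pad, pbc, pbd, pcd, hdc4, R.zeta⟩
  have R5f : RelFive z b c d f := { R4 with ff := hf, af := paf, bf := pbf, cf := pcf, df := pdf, abcf := R.abcf }
  have R5g : RelFive z b c d g := { R4 with ff := hg, af := pag, bf := pbg, cf := pcg, df := pdg, abcf := R.abcg }
  obtain ⟨hw3, hwa, hwb, hwc⟩ := w_four R4
  have hne := H.extra.ne_one
  have hfgne := D.pair1.fg
  have hwf : wEl b c d * f = f * wEl b c d :=
    w_five R5f (fun h => hfgne (by rw [h, one_mul, mul_one])) (fun h => hfgne (by rw [h]; exact qag)) hne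
  have hwg : wEl b c d * g = g * wEl b c d :=
    w_five R5g (fun h => hfgne (by rw [h, one_mul, mul_one])) (fun h => hfgne (by rw [h]; exact qaf.symm)) hne
  have hwρ : wEl b c d * ρ = ρ * wEl b c d := by
    rw [hρ]
    exact (((((show Commute _ b from hwb).mul_right hwa).mul_right hwf).mul_right hwb).mul_right hwa).mul_right hwb
  have hw1 : wEl b c d ≠ 1 := by
    intro hw
    have hmem := dcd_mem R4 he pae pbe pce pde hw
    have hle : Subgroup.closure ({z, b, c, e} : Set G) ≤ Subgroup.centralizer ({e} : Set G) := by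
      rw [Subgroup.closure_le]
      rintro u (rfl | rfl | rfl | rfl) <;> rw [SetLike.mem_coe, Subgroup.mem_centralizer_singleton_iff]
      exacts [qae, qbe, qce]
    have h1 : d * c * d * e = e * (d * c * d) := Subgroup.mem_centralizer_singleton_iff.1 (hle hmem)
    refine hnc ?_
    calc d * e * d * c = d * (e * (d * c * d)) * d := by
          rw [show d * (e * (d * c * d)) * d = d * e * d * c * (d * d) by group, hd, mul_one]
      _ = d * (d * c * d * e) * d := by rw [h1]
      _ = (d * d) * c * (d * e * d) := by group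
      _ = c * (d * e * d) := by rw [hd, one_mul]
  have pwe := hbraid _ hwa hwf hwρ hwc hw3 hw1
  let F : Suz.Gen → G := fun
    | .a => z | .b => b | .c => c | .d => d | .e => e | .f => f | .g => g
  have hcox : ∀ u v : Suz.Gen, (F u * F v) ^ coxLabel Suz.edges u v = 1 := by
    intro u v
    cases u <;> cases v
    · exact (pow_one _).trans ha
    · exact pab
    · exact pac
    · exact pad
    · exact pae
    · exact paf
    · exact pag
    · exact pow_swap pab
    · exact (pow_one _).trans hb
    · exact pbc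
    · exact pbd
    · exact pbe
    · exact pbf
    · exact pbg
    · exact pow_swap pac
    · exact pow_swap pbc
    · exact (pow_one _).trans hc
    · exact pcd
    · exact pce
    · exact pcf
    · exact pcg
    · exact pow_swap pad
    · exact pow_swap pbd
    · exact pow_swap pcd
    · exact (pow_one _).trans hd
    · exact pde
    · exact pdf
    · exact pdg
    · exact pow_swap pae
    · exact pow_swap pbe
    · exact pow_swap pce
    · exact pow_swap pde
    · exact (pow_one _).trans he
    · exact pef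
    · exact peg
    · exact pow_swap paf
    · exact pow_swap pbf
    · exact pow_swap pcf
    · exact pow_swap pdf
    · exact pow_swap pef
    · exact (pow_one _).trans hf
    · exact pfg
    · exact pow_swap pag
    · exact pow_swap pbg
    · exact pow_swap pcg
    · exact pow_swap pdg
    · exact pow_swap peg
    · exact pow_swap pfg
    · exact (pow_one _).trans hg
  have hrels : ∀ r ∈ coxRelators Suz.edges ∪ {r | r ∈ Suz.extra}, FreeGroup.lift F r = 1 := by
    rintro r (⟨u, -, v, -, rfl⟩ | hr)
    · simpa using hcox u v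
    · simp only [Suz.extra, Set.mem_setOf_eq, List.mem_cons, List.not_mem_nil, or_false] at hr
      rcases hr with rfl | rfl | rfl | rfl | rfl <;>
        simp only [Suz.a, Suz.b, Suz.c, Suz.d, Suz.e, Suz.f, Suz.g, map_mul, map_pow, map_inv, FreeGroup.lift_apply_of, F]
      · rw [hcd4, mul_inv_cancel]
      · rw [R.fg, mul_inv_cancel]
      · exact R.abcf
      · exact R.bfg
      · exact pwe
  let ψ : Cfsg.Spor.Suz →* G := PresentedGroup.toGroup hrels
  have hψ : ψ (PresentedGroup.of Suz.Gen.a) = z := PresentedGroup.toGroup.of hrels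
  have : IsSimpleGroup Cfsg.Spor.Suz := CfsgLib.Presented.SuzSimple.simple
  have hinj : Function.Injective ψ := by
    refine (MonoidHom.ker_eq_bot_iff ψ).1 (((inferInstance : ψ.ker.Normal).eq_bot_or_eq_top).resolve_right fun h => ?_)
    refine hne (hψ.symm.trans (MonoidHom.mem_ker.1 ?_))
    rw [h]
    exact Subgroup.mem_top _
  have hbij : Function.Bijective ψ := (Nat.bijective_iff_injective_and_card ψ).2
    ⟨hinj, by rw [CfsgLib.Presented.SuzOrder.card_eq, H.card_G]⟩
  exact ⟨(MulEquiv.ofBijective ψ hbij).symm⟩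

end CfsgLib.SuzType
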